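import Mathlib
import Groth.Prelude.Def_CAlg
import Groth.Agent.CAlgReg.GlobalDim
import Groth.Agent.Depth.SeqDepth

/-!
# Injective dimension of finite modules over Noetherian local rings; Gorenstein local rings
-/

namespace Groth.Agent.GorenBasic

open CategoryTheory Abelian IsLocalRing Pointwise

universe u

variable {R : Type u} [CommRing R]

/-- The short exact sequence of multiplication by a regular element: the map on `Ext`. -/
lemma ext_smulShortComplex_f (N M : ModuleCat.{u} R) (x : R) {i : ℕ} (e : Ext N M i) :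
    (Ext.mk₀ (ModuleCat.smulShortComplex N x).f).comp e (zero_add i) = x • e := by
  have h : (Ext.mk₀ (x • 𝟙 N)).comp e (zero_add i) = x • e := by
    rw [Ext.mk₀_smul, Ext.smul_comp, Ext.mk₀_id_comp]
  exact h

/-- Prime filtration dévissage: killing `Ext` by a multiplicative set. -/
lemma kill_ext_of_primes [IsNoetherianRing R] (S : Submonoid R) (J : Ideal R) (M : ModuleCat.{u} R)
    (i : ℕ) (h : ∀ q : PrimeSpectrum R, J ≤ q.asIdeal →
      ∃ s ∈ S, ∀ e : Ext (ModuleCat.of R (R ⧸ q.asIdeal)) M i, s • e = 0)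
    (N : Type u) [AddCommGroup N] [Module R N] [hN : Module.Finite R N]
    (hJ : J ≤ Module.annihilator R N) :
    ∃ s ∈ S, ∀ e : Ext (ModuleCat.of R N) M i, s • e = 0 := by
  induction hN using IsNoetherianRing.induction_on_isQuotientEquivQuotientPrime R with
  | subsingleton N =>
    refine ⟨1, one_mem S, fun e => ?_⟩
    rw [one_smul, ← Ext.mk₀_id_comp e, show 𝟙 (ModuleCat.of R N) = 0 from
      (ModuleCat.isZero_of_subsingleton _).eq_zero_of_src _, Ext.mk₀_zero, Ext.zero_comp]
  | quotient N q f =>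
    have hq : J ≤ q.asIdeal := fun r hr => by
      have h1 := f.annihilator_eq ▸ hJ hr
      rwa [Ideal.annihilator_quotient] at h1
    obtain ⟨s, hs, hs'⟩ := h q hq
    refine ⟨s, hs, fun e => ?_⟩
    let φ : ModuleCat.of R (R ⧸ q.asIdeal) ≅ ModuleCat.of R N := f.symm.toModuleIso
    have h1 := hs' ((Ext.mk₀ φ.hom).comp e (zero_add i))
    rw [← Ext.comp_smul] at h1
    have h2 := congrArg (fun t => (Ext.mk₀ φ.inv).comp t (zero_add i)) h1
    simpa [Ext.mk₀_comp_mk₀_assoc] using h2
  | exact N₁ N₂ N₃ f g hf hg hfg h₁ h₃ =>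
    obtain ⟨s₁, hs₁, h₁⟩ := h₁ (hJ.trans (f.annihilator_le_of_injective hf))
    obtain ⟨s₃, hs₃, h₃⟩ := h₃ (hJ.trans (g.annihilator_le_of_surjective hg))
    refine ⟨s₃ * s₁, mul_mem hs₃ hs₁, fun e => ?_⟩
    let C : ShortComplex (ModuleCat.{u} R) :=
      ModuleCat.shortComplexOfCompEqZero f g hfg.linearMap_comp_eq_zero
    have hC : C.ShortExact := ModuleCat.shortComplex_shortExact C hfg hf hg
    obtain ⟨e₃, he₃⟩ := Ext.contravariant_sequence_exact₂ hC M (n := i) (s₁ • e)
      (by rw [Ext.comp_smul]; exact h₁ _)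
    rw [mul_smul, ← he₃, ← Ext.comp_smul]
    exact (congrArg (fun t => (Ext.mk₀ C.g).comp t (zero_add i)) (h₃ e₃)).trans (Ext.comp_zero ..)

section Local

variable [IsLocalRing R] [IsNoetherianRing R]

/-- If `Ext^i(k, M) = 0` for `i ≥ n` then `Ext^i(N, M) = 0` for all finite `N` and `i ≥ n`. -/
lemma subsingleton_ext_of_residueField (M : ModuleCat.{u} R) [Module.Finite R M] {n : ℕ}
    (h : ∀ i, n ≤ i → Subsingleton (Ext (ModuleCat.of R (ResidueField R)) M i))
    (N : Type u) [AddCommGroup N] [Module R N] [Module.Finite R N] {i : ℕ} (hi : n ≤ i) :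
    Subsingleton (Ext (ModuleCat.of R N) M i) := by
  suffices H : ∀ p : Ideal R, p.IsPrime → ∀ i, n ≤ i →
      ∀ e : Ext (ModuleCat.of R (R ⧸ p)) M i, e = 0 by
    obtain ⟨s, hs, hs'⟩ := kill_ext_of_primes ⊥ ⊥ M i
      (fun q _ => ⟨1, one_mem _, fun e => by rw [one_smul]; exact H _ q.2 i hi e⟩) N bot_le
    rw [Submonoid.mem_bot] at hs
    exact subsingleton_of_forall_eq 0 fun e => by simpa [hs] using hs' e
  intro p
  induction p using WellFoundedGT.induction with
  | _ p ih =>
    intro hp i hi e
    by_cases hpm : p = maximalIdeal R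
    · subst hpm
      exact @Subsingleton.elim _ (h i hi) e 0
    obtain ⟨x, hxm, hxp⟩ := SetLike.exists_of_lt
      (lt_of_le_of_ne (le_maximalIdeal hp.ne_top) hpm)
    have hreg : IsSMulRegular (R ⧸ p) x := by
      refine IsSMulRegular.of_right_eq_zero_of_smul fun y hy => ?_
      obtain ⟨r, rfl⟩ := Ideal.Quotient.mk_surjective y
      rw [Algebra.smul_def, Ideal.Quotient.algebraMap_eq, ← map_mul, Ideal.Quotient.eq_zero_iff_mem] at hy
      exact Ideal.Quotient.eq_zero_iff_mem.mpr ((hp.mem_or_mem hy).resolve_left hxp)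
    let P := ModuleCat.of R (R ⧸ p)
    have hS : (ModuleCat.smulShortComplex P x).ShortExact := IsSMulRegular.smulShortComplex_shortExact (M := P) hreg
    have hann : p ⊔ Ideal.span {x} ≤ Module.annihilator R (QuotSMulTop x P) := by
      refine sup_le ?_ ((Ideal.span_singleton_le_iff_mem _).mpr (QuotSMulTop.mem_annihilator _ _))
      intro r hr
      rw [Module.mem_annihilator]
      intro y
      obtain ⟨z, rfl⟩ := Submodule.mkQ_surjective _ y
      rw [← map_smul, (Module.mem_annihilator.mp (by rw [Ideal.annihilator_quotient]; exact hr) z :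
        r • z = 0), map_zero]
    have h3 : ∀ e₃ : Ext (ModuleCat.of R (QuotSMulTop x P)) M (i + 1), e₃ = 0 := by
      obtain ⟨s, hs, hs'⟩ := kill_ext_of_primes ⊥ (p ⊔ Ideal.span {x}) M (i + 1)
        (fun q hq => ⟨1, one_mem _, fun e => by
          rw [one_smul]
          exact ih q.asIdeal (lt_of_le_of_ne (le_sup_left.trans hq) (fun hpq => hxp (hpq ▸ hq
            (Ideal.mem_sup_right (Ideal.mem_span_singleton_self x))))) q.2 (i + 1) (by omega) e⟩)
        (QuotSMulTop x P) hann
      rw [Submonoid.mem_bot] at hs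
      exact fun e => by simpa [hs] using hs' e
    have hsurj : ∀ e : Ext P M i, ∃ e' : Ext P M i, x • e' = e := by
      intro e
      obtain ⟨e', he'⟩ := Ext.contravariant_sequence_exact₁ hS M (n₁ := i + 1) e (add_comm 1 i) (h3 _)
      exact ⟨e', (ext_smulShortComplex_f P M x e').symm.trans he'⟩
    by_contra hne
    have : Nontrivial (Ext P M i) := ⟨⟨e, 0, hne⟩⟩
    refine Submodule.top_ne_pointwise_smul_of_mem_jacobson_annihilator
      (maximalIdeal_le_jacobson _ hxm : x ∈ (Module.annihilator R (Ext P M i)).jacobson) ?_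
    refine (eq_top_iff.mpr fun y _ => ?_).symm
    obtain ⟨z, rfl⟩ := hsurj y
    exact Submodule.smul_mem_pointwise_smul _ _ ⊤ trivial

/-- A finite module has finite injective dimension iff `Ext^i(k, M)` vanishes for large `i`. -/
lemma hasInjectiveDimensionLT_of_residueField (M : ModuleCat.{u} R) [Module.Finite R M] {n : ℕ}
    (h : ∀ i, n ≤ i → Subsingleton (Ext (ModuleCat.of R (ResidueField R)) M i)) :
    HasInjectiveDimensionLT M (n + 1) := by
  refine HasInjectiveDimensionLT.mk fun i hi N e => ?_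
  obtain ⟨j, rfl⟩ : ∃ j, i = j + 1 := ⟨i - 1, by omega⟩
  exact @Subsingleton.elim _ (CAlgReg.subsingleton_ext_of_forall_quotient j M
    (fun I => subsingleton_ext_of_residueField M h (R ⧸ I) (by omega)) N) e 0

lemma exists_hasInjectiveDimensionLT_iff (M : ModuleCat.{u} R) [Module.Finite R M] :
    (∃ n : ℕ, HasInjectiveDimensionLT M n) ↔
      ∃ N : ℕ, ∀ i : ℕ, N ≤ i → Subsingleton (Ext (ModuleCat.of R (ResidueField R)) M i) :=
  ⟨fun ⟨n, hn⟩ => ⟨n, fun i hi => HasInjectiveDimensionLT.subsingleton M n i hi _⟩,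
    fun ⟨N, hN⟩ => ⟨N + 1, hasInjectiveDimensionLT_of_residueField M hN⟩⟩

omit [IsLocalRing R] in
/-- `Ext^n(R/q, R)_q ≠ 0` for a prime `q` of height `n`. -/
lemma annihilator_ext_le_of_height : ∀ (n : ℕ) (q : Ideal R) [q.IsPrime], q.height = n →
    Module.annihilator R (Ext (ModuleCat.of R (R ⧸ q)) (ModuleCat.of R R) n) ≤ q := by
  intro n
  induction n with
  | zero =>
    intro q _ hq r hr
    have hmin : q ∈ minimalPrimes R := Ideal.height_eq_zero_iff.mp (by exact_mod_cast hq)
    have hass : IsAssociatedPrime q R := Module.associatedPrimes.minimalPrimes_annihilator_subset_associatedPrimes R R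
      (by rwa [Module.annihilator_eq_bot.mpr inferInstance])
    obtain ⟨-, f, hf⟩ := (isAssociatedPrime_iff_exists_injective_linearMap q R).mp hass
    have h0 := Module.mem_annihilator.mp hr (Ext.mk₀ (ModuleCat.ofHom f))
    rw [← Ext.mk₀_smul] at h0
    have h1 : r • ModuleCat.ofHom f = 0 := (Ext.mk₀_bijective _ _).1 (h0.trans (Ext.mk₀_zero _ _).symm)
    have h2 : f (r • 1) = 0 := by
      rw [map_smul]
      exact congrArg (fun t => t.hom (1 : R ⧸ q)) h1
    rw [← map_zero f] at h2
    have := hf h2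
    rwa [Algebra.smul_def, mul_one, Ideal.Quotient.algebraMap_eq, Ideal.Quotient.eq_zero_iff_mem] at this
  | succ n ih =>
    intro q _ hq r hr
    obtain ⟨y, hy, hyn⟩ := (Order.coe_lt_height_iff (x := (⟨q, inferInstance⟩ : PrimeSpectrum R))
      (by rw [← PrimeSpectrum.height_eq_orderHeight, hq]; exact ENat.natCast_lt_top _)).mp
      (show (n : ℕ∞) < _ by rw [← PrimeSpectrum.height_eq_orderHeight, hq]; exact_mod_cast n.lt_succ_self)
    have hpq : y.asIdeal < q := hy
    obtain ⟨x, hxq, hxp⟩ := SetLike.exists_of_lt hpq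
    have hnb : ∀ q' : PrimeSpectrum R, y.asIdeal < q'.asIdeal → q'.asIdeal ≤ q → q'.asIdeal = q := by
      intro q' h1 h2
      by_contra hne
      have e1 := Ideal.height_strict_mono_of_isPrime_of_isPrime (lt_of_le_of_ne h2 hne)
      have e2 := Ideal.height_strict_mono_of_isPrime_of_isPrime h1
      rw [PrimeSpectrum.height_eq_orderHeight y, hyn] at e2
      rw [hq] at e1
      cases hm : q'.asIdeal.height with
      | top => simp [hm] at e1
      | coe m => rw [hm] at e1 e2; norm_cast at e1 e2; omega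
    by_contra hrq
    let P := ModuleCat.of R (R ⧸ y.asIdeal)
    have hreg : IsSMulRegular (R ⧸ y.asIdeal) x := by
      refine IsSMulRegular.of_right_eq_zero_of_smul fun z hz => ?_
      obtain ⟨s, rfl⟩ := Ideal.Quotient.mk_surjective z
      rw [Algebra.smul_def, Ideal.Quotient.algebraMap_eq, ← map_mul, Ideal.Quotient.eq_zero_iff_mem] at hz
      exact Ideal.Quotient.eq_zero_iff_mem.mpr ((y.2.mem_or_mem hz).resolve_left hxp)
    have hS : (ModuleCat.smulShortComplex P x).ShortExact := IsSMulRegular.smulShortComplex_shortExact (M := P) hreg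
    obtain ⟨s, hs, hs'⟩ := kill_ext_of_primes q.primeCompl (y.asIdeal ⊔ Ideal.span {x}) (ModuleCat.of R R) (n + 1)
      (fun q' hq' => by
        by_cases hle : q'.asIdeal ≤ q
        · have hlt : y.asIdeal < q'.asIdeal := lt_of_le_of_ne (le_sup_left.trans hq')
            (fun h => hxp (h ▸ hq' (Ideal.mem_sup_right (Ideal.mem_span_singleton_self x))))
          rw [hnb q' hlt hle]
          exact ⟨r, hrq, fun e => Module.mem_annihilator.mp hr e⟩
        · obtain ⟨t, ht, htq⟩ := SetLike.not_le_iff_exists.mp hle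
          refine ⟨t, htq, fun e => ?_⟩
          have : t • 𝟙 (ModuleCat.of R (R ⧸ q'.asIdeal)) = 0 := ModuleCat.hom_ext (LinearMap.ext fun z => by
            obtain ⟨z, rfl⟩ := Ideal.Quotient.mk_surjective z
            exact Ideal.Quotient.eq_zero_iff_mem.mpr (Ideal.mul_mem_right z _ ht))
          rw [← Ext.mk₀_id_comp e, ← Ext.smul_comp, ← Ext.mk₀_smul, this, Ext.mk₀_zero, Ext.zero_comp])
      (QuotSMulTop x P) (by
        refine sup_le ?_ ((Ideal.span_singleton_le_iff_mem _).mpr (QuotSMulTop.mem_annihilator _ _))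
        intro t ht
        rw [Module.mem_annihilator]
        intro z
        obtain ⟨z, rfl⟩ := Submodule.mkQ_surjective _ z
        rw [← map_smul, (Module.mem_annihilator.mp (by rw [Ideal.annihilator_quotient]; exact ht) z :
          t • z = 0), map_zero])
    have hrange : LinearMap.range (s • LinearMap.id : Ext P (ModuleCat.of R R) n →ₗ[R] Ext P (ModuleCat.of R R) n)
        ≤ Ideal.span {x} • ⊤ := by
      rintro _ ⟨e, rfl⟩
      obtain ⟨e', he'⟩ := Ext.contravariant_sequence_exact₁ hS _ (n₁ := n + 1) (s • e) (add_comm 1 n)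
        ((Ext.comp_smul hS.extClass e _ s).trans (hs' _))
      rw [ext_smulShortComplex_f] at he'
      rw [show (s • LinearMap.id : Ext P (ModuleCat.of R R) n →ₗ[R] Ext P (ModuleCat.of R R) n) e = x • e' from he'.symm]
      exact Submodule.smul_mem_smul (Ideal.mem_span_singleton_self x) trivial
    obtain ⟨f, hf, -, hcoef, hev⟩ := LinearMap.exists_monic_and_natDegree_eq_and_coeff_mem_pow_and_aeval_eq_zero
      R _ (Ideal.span {x}) hrange
    have hann : f.eval s ∈ Module.annihilator R (Ext P (ModuleCat.of R R) n) := by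
      rw [Module.mem_annihilator]
      intro e
      have h1 : (s • LinearMap.id : Ext P (ModuleCat.of R R) n →ₗ[R] Ext P (ModuleCat.of R R) n) =
          algebraMap R (Module.End R (Ext P (ModuleCat.of R R) n)) s := rfl
      rw [h1, Polynomial.aeval_algebraMap_apply] at hev
      exact LinearMap.congr_fun hev e
    have hy' := hpq.le (ih y.asIdeal (by rw [PrimeSpectrum.height_eq_orderHeight, hyn]) hann)
    rw [hf.as_sum] at hy'
    simp only [Polynomial.eval_add, Polynomial.eval_pow, Polynomial.eval_X, Polynomial.eval_finsetSum,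
      Polynomial.eval_mul, Polynomial.eval_C] at hy'
    refine hs (Ideal.IsPrime.mem_of_pow_mem inferInstance _ ((Submodule.add_mem_iff_left _ ?_).mp hy'))
    refine sum_mem fun k hk => Ideal.mul_mem_right _ _ ?_
    refine (Ideal.span_singleton_le_iff_mem _).mpr hxq (Ideal.pow_le_self ?_ (hcoef k))
    rw [Finset.mem_range] at hk
    omega

/-- If `Ext^j(N, R) = 0` for `j > c` then the top degree of `Ext(k, R)` is at most `c + depth N`. -/
lemma le_of_depth : ∀ (t : ℕ) (N : Type u) [AddCommGroup N] [Module R N] [Module.Finite R N] [Nontrivial N],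
    LocCoh.depth R N = t → ∀ (c r : ℕ),
    (∀ j, r < j → Subsingleton (Ext (ModuleCat.of R (ResidueField R)) (ModuleCat.of R R) j)) →
    (∀ j, c < j → Subsingleton (Ext (ModuleCat.of R N) (ModuleCat.of R R) j)) →
    ¬ Subsingleton (Ext (ModuleCat.of R (ResidueField R)) (ModuleCat.of R R) r) → r ≤ c + t := by
  intro t
  induction t with
  | zero =>
    intro N _ _ _ _ ht c r htop hN hr
    obtain ⟨-, f, hf⟩ := (isAssociatedPrime_iff_exists_injective_linearMap (maximalIdeal R) N).mp
      (Depth.depth_eq_zero_iff.mp (by exact_mod_cast ht))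
    by_contra hlt
    refine hr (subsingleton_of_forall_eq 0 fun e => ?_)
    let C : ShortComplex (ModuleCat.{u} R) :=
      ModuleCat.shortComplexOfCompEqZero f f.range.mkQ f.range_mkQ_comp
    have hC : C.ShortExact := ModuleCat.shortComplex_shortExact C
      (LinearMap.exact_map_mkQ_range f) hf f.range.mkQ_surjective
    have h3 : Subsingleton (Ext C.X₃ (ModuleCat.of R R) (r + 1)) :=
      subsingleton_ext_of_residueField (ModuleCat.of R R) (n := r + 1) (fun i hi => htop i (by omega))
        (N ⧸ f.range) le_rfl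
    obtain ⟨e', he'⟩ := Ext.contravariant_sequence_exact₁ hC (ModuleCat.of R R) (n₁ := r + 1)
      (e : Ext C.X₁ _ r) (add_comm 1 r) (Subsingleton.elim _ _)
    rw [@Subsingleton.elim _ (hN r (by omega)) e' 0, Ext.comp_zero] at he'
    exact he'.symm
  | succ t ih =>
    intro N _ _ _ _ ht c r htop hN hr
    obtain ⟨x, hx, hreg⟩ := (Depth.one_le_idealDepth_iff Depth.maximalIdeal_smul_top_ne_top).mp
      (show 1 ≤ LocCoh.idealDepth (maximalIdeal R) N by
        rw [show LocCoh.idealDepth (maximalIdeal R) N = LocCoh.depth R N from rfl, ht]; simp)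
    have hd : LocCoh.depth R (QuotSMulTop x N) = t := by
      have := Depth.idealDepth_quotSMulTop_add_one (I := maximalIdeal R) N hx hreg
      rw [show LocCoh.idealDepth (maximalIdeal R) N = LocCoh.depth R N from rfl, ht, Nat.cast_succ] at this
      exact WithTop.add_right_cancel WithTop.one_ne_top this
    have : Nontrivial (QuotSMulTop x N) := nontrivial_quotSMulTop_of_mem_maximalIdeal N hx
    have hS : (ModuleCat.smulShortComplex (ModuleCat.of R N) x).ShortExact :=
      IsSMulRegular.smulShortComplex_shortExact (M := ModuleCat.of R N) hreg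
    have := ih (QuotSMulTop x N) hd (c + 1) r htop (fun j hj => subsingleton_of_forall_eq 0 fun e => by
      obtain ⟨j, rfl⟩ : ∃ j', j = j' + 1 := ⟨j - 1, by omega⟩
      have := hN (j + 1) (by omega)
      have := hN j (by omega)
      obtain ⟨e', he'⟩ := Ext.contravariant_sequence_exact₃ hS (ModuleCat.of R R) (n₀ := j)
        (e : Ext (ModuleCat.smulShortComplex (ModuleCat.of R N) x).X₃ _ (j + 1))
        (@Subsingleton.elim _ (hN (j + 1) (by omega)) _ _) (add_comm 1 j)
      exact he'.symm.trans ((congrArg (fun t => hS.extClass.comp t (add_comm 1 j))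
        (@Subsingleton.elim _ (hN j (by omega)) e' 0)).trans (Ext.comp_zero ..))) hr
    omega

end Local

/-- In a Gorenstein local ring, depth equals dimension, and `Ext(k, R)` lives in degree `≤ dim`. -/
lemma gorenstein_dim [h : LocCoh.IsGorensteinLocalRing R] : ∃ d : ℕ, ringKrullDim R = d ∧
    LocCoh.depth R R = d ∧
    (∀ i, d < i → Subsingleton (Ext (ModuleCat.of R (ResidueField R)) (ModuleCat.of R R) i)) ∧
    ¬ Subsingleton (Ext (ModuleCat.of R (ResidueField R)) (ModuleCat.of R R) d) := by
  obtain ⟨m, hm⟩ := h.exists_hasInjectiveDimensionLT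
  obtain ⟨d, hd⟩ : ∃ d : ℕ, (maximalIdeal R).height = d :=
    ⟨_, (ENat.natCast_toNat (Ideal.height_ne_top Ideal.IsPrime.ne_top')).symm⟩
  have hdim : ringKrullDim R = d := by rw [← maximalIdeal_height_eq_ringKrullDim, hd]; rfl
  have hne : ¬ Subsingleton (Ext (ModuleCat.of R (ResidueField R)) (ModuleCat.of R R) d) := fun hs => by
    have := annihilator_ext_le_of_height d (maximalIdeal R) hd
    have h1 : (1 : R) ∈ Module.annihilator R (Ext (ModuleCat.of R (R ⧸ maximalIdeal R)) (ModuleCat.of R R) d) :=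
      Module.mem_annihilator.mpr fun e => @Subsingleton.elim _ hs _ _
    exact (maximalIdeal.isMaximal R).ne_top ((Ideal.eq_top_iff_one _).mpr (this h1))
  classical
  let Q : ℕ → Prop := fun j => ¬ Subsingleton (Ext (ModuleCat.of R (ResidueField R)) (ModuleCat.of R R) j)
  have hb : ∀ j, Q j → j ≤ m := fun j hj => by
    by_contra hlt
    exact hj (HasInjectiveDimensionLT.subsingleton _ m j (by omega) _)
  let r := Nat.findGreatest Q m
  have hr : Q r := Nat.findGreatest_spec (hb d hne) hne
  have htop : ∀ j, r < j → Subsingleton (Ext (ModuleCat.of R (ResidueField R)) (ModuleCat.of R R) j) :=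
    fun j hj => by_contra fun hq => absurd (Nat.le_findGreatest (P := Q) (hb j hq) hq) (Nat.not_le.mpr hj)
  have hdr : d ≤ r := Nat.le_findGreatest (hb d hne) hne
  have hle : LocCoh.depth R R ≤ (d : ℕ∞) :=
    WithBot.coe_le_coe.mp ((Depth.depth_le_ringKrullDim (M := R)).trans hdim.le)
  obtain ⟨t, ht⟩ : ∃ t : ℕ, LocCoh.depth R R = t :=
    ⟨_, (ENat.natCast_toNat (ne_top_of_le_ne_top (ENat.natCast_ne_top d) hle)).symm⟩
  have := le_of_depth t R ht 0 r htop (fun j hj => by
    obtain ⟨j, rfl⟩ : ∃ j', j = j' + 1 := ⟨j - 1, by omega⟩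
    have : Projective (ModuleCat.of R R) := (IsProjective.iff_projective (R := R) R).1 inferInstance
    exact Ext.subsingleton_of_projective _ _ j) hr
  rw [ht] at hle
  have htd : t ≤ d := by exact_mod_cast hle
  exact ⟨d, hdim, by rw [ht, show t = d by omega], fun i hi => htop i (by omega), hne⟩

theorem isGorensteinLocalRing_of_isRegularLocalRing (A : Type u) [CommRing A] [IsRegularLocalRing A] :
    LocCoh.IsGorensteinLocalRing A := by
  obtain ⟨d, hd⟩ : ∃ d : ℕ, ringKrullDim A = d := by
    exact ⟨_, (IsRegularLocalRing.spanFinrank_maximalIdeal).symm⟩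
  refine { exists_hasInjectiveDimensionLT := ⟨d + 1, HasInjectiveDimensionLT.mk fun i hi N e => ?_⟩ }
  exact @Subsingleton.elim _
    (@HasProjectiveDimensionLT.subsingleton _ _ _ _ N (d + 1) (CAlgReg.pdLT_of_isRegularLocalRing hd N) i hi _) e 0

end Groth.Agent.GorenBasic
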