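import Mathlib
import Groth.Agent.GorenBasic.Basic

/-!
# Rees' change of rings: `Ext^i_{A/f}(N, A/f)` vs `Ext^{i+1}_A(N, A)`
-/

namespace Groth.Agent.GorenBasic

open CategoryTheory Abelian IsLocalRing

universe u

variable {A : Type u} [CommRing A] (f : A) (hf : IsSMulRegular A f)


/-- `A --f--> A --> A/(f)`. -/
noncomputable abbrev mulSeq : ShortComplex (ModuleCat.{u} A) :=
  ModuleCat.shortComplexOfCompEqZero (LinearMap.lsmul A A f) (Algebra.linearMap A (A ⧸ Ideal.span {f})) (by
    ext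
    exact Ideal.Quotient.eq_zero_iff_mem.mpr (by simp))

include hf in
lemma mulSeq_shortExact : (mulSeq f).ShortExact := by
  refine ModuleCat.shortComplex_shortExact (mulSeq f) (fun a => ?_) hf Ideal.Quotient.mk_surjective
  refine (Ideal.Quotient.eq_zero_iff_mem.trans Ideal.mem_span_singleton).trans ⟨?_, ?_⟩
  · rintro ⟨b, rfl⟩; exact ⟨b, rfl⟩
  · rintro ⟨b, rfl⟩; exact ⟨b, rfl⟩

lemma smul_self_eq_zero {N : Type u} [AddCommGroup N] [Module A N] [Module (A ⧸ Ideal.span {f}) N] [IsScalarTower A (A ⧸ Ideal.span {f}) N]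
    (y : N) : f • y = 0 := by
  rw [← one_smul (A ⧸ Ideal.span {f}) y, ← smul_assoc, Algebra.smul_def, Ideal.Quotient.algebraMap_eq,
    Ideal.Quotient.eq_zero_iff_mem.mpr (Ideal.mem_span_singleton_self f), zero_mul, zero_smul]

variable {N : Type u} [AddCommGroup N] [Module A N] [Module (A ⧸ Ideal.span {f}) N] [IsScalarTower A (A ⧸ Ideal.span {f}) N]

/-- `Hom_B(N, (A ⧸ Ideal.span {f})) → Ext^1_A(N, A)`. -/
noncomputable def connHom (φ : N →ₗ[(A ⧸ Ideal.span {f})] (A ⧸ Ideal.span {f})) : Ext (ModuleCat.of A N) (mulSeq f).X₁ 1 :=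
  (Ext.mk₀ (Y := (mulSeq f).X₃) (ModuleCat.ofHom (φ.restrictScalars A))).comp
    (mulSeq_shortExact f hf).extClass (zero_add 1)

include hf in
lemma connHom_injective : Function.Injective (connHom f hf (N := N)) := by
  intro φ ψ h
  let g : ModuleCat.of A N ⟶ (mulSeq f).X₃ :=
    ModuleCat.ofHom (φ.restrictScalars A) - ModuleCat.ofHom (ψ.restrictScalars A)
  have h0 : (Ext.mk₀ g).comp (mulSeq_shortExact f hf).extClass (zero_add 1) = 0 := by
    have : Ext.mk₀ g = Ext.mk₀ (ModuleCat.ofHom (φ.restrictScalars A)) -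
        Ext.mk₀ (ModuleCat.ofHom (ψ.restrictScalars A)) :=
      map_sub Ext.addEquiv₀.symm _ _
    rw [this, sub_eq_add_neg, Ext.add_comp, Ext.neg_comp, ← sub_eq_add_neg, sub_eq_zero]
    exact h
  obtain ⟨x₂, hx₂⟩ := Ext.covariant_sequence_exact₃ _ (mulSeq_shortExact f hf) (Ext.mk₀ g) rfl h0
  obtain ⟨u, rfl⟩ := Ext.homEquiv₀.symm.surjective x₂
  rw [Ext.homEquiv₀_symm_apply, Ext.mk₀_comp_mk₀] at hx₂
  have hg := (Ext.mk₀_bijective _ _).1 hx₂
  have hu : ∀ y, u.hom y = 0 := fun y => by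
    refine hf.right_eq_zero_of_smul ?_
    rw [← map_smul, smul_self_eq_zero f y, map_zero]
  ext y
  have := congrArg (fun t => t.hom y) hg
  change Algebra.linearMap A (A ⧸ Ideal.span {f}) (u.hom y) = φ y - ψ y at this
  rw [hu y, map_zero] at this
  exact sub_eq_zero.mp this.symm

include hf in
lemma connHom_surjective : Function.Surjective (connHom f hf (N := N)) := by
  intro x
  have h0 : x.comp (Ext.mk₀ (mulSeq f).f) (add_zero 1) = 0 := by
    have h1 : (mulSeq f).f = f • 𝟙 (ModuleCat.of A A) := rfl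
    have h2 : f • 𝟙 (ModuleCat.of A N) = 0 := ModuleCat.hom_ext (LinearMap.ext fun y => smul_self_eq_zero f y)
    rw [h1, Ext.mk₀_smul, Ext.comp_smul, Ext.comp_mk₀_id, ← Ext.mk₀_id_comp x, ← Ext.smul_comp,
      ← Ext.mk₀_smul, h2, Ext.mk₀_zero, Ext.zero_comp]
  obtain ⟨x₀, hx₀⟩ := Ext.covariant_sequence_exact₁ _ (mulSeq_shortExact f hf) x h0 (n₀ := 0) rfl
  obtain ⟨v, rfl⟩ := Ext.homEquiv₀.symm.surjective x₀
  rw [Ext.homEquiv₀_symm_apply] at hx₀
  exact ⟨{ toFun := v.hom
           map_add' := map_add v.hom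
           map_smul' := fun b y => by
            obtain ⟨a, rfl⟩ := Ideal.Quotient.mk_surjective b
            rw [← Ideal.Quotient.algebraMap_eq, algebraMap_smul]
            exact (map_smul v.hom a y).trans (algebraMap_smul ((A ⧸ Ideal.span {f})) a _).symm }, hx₀⟩

include hf in
lemma subsingleton_ext_free (F : Type u) [AddCommGroup F] [Module A F] [Module (A ⧸ Ideal.span {f}) F]
    [IsScalarTower A (A ⧸ Ideal.span {f}) F] [Module.Projective (A ⧸ Ideal.span {f}) F] {i : ℕ} (hi : 2 ≤ i) (M : ModuleCat.{u} A) :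
    Subsingleton (Ext (ModuleCat.of A F) M i) :=
  @HasProjectiveDimensionLT.subsingleton _ _ _ _ _ 2 (CAlgReg.pdLT_two_of_projective_quotient hf F) i hi M

include hf in
/-- Change of rings along a regular element. -/
theorem subsingleton_ext_quotient_iff : ∀ (i : ℕ) (N : Type u) [AddCommGroup N] [Module A N]
    [Module (A ⧸ Ideal.span {f}) N] [IsScalarTower A (A ⧸ Ideal.span {f}) N],
    Subsingleton (Ext (ModuleCat.of (A ⧸ Ideal.span {f}) N) (ModuleCat.of (A ⧸ Ideal.span {f}) (A ⧸ Ideal.span {f})) (i + 1)) ↔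
      Subsingleton (Ext (ModuleCat.of A N) (ModuleCat.of A A) (i + 2)) := by
  intro i
  induction i with
  | zero =>
    intro N _ _ _ _
    let g : (N →₀ (A ⧸ Ideal.span {f})) →ₗ[(A ⧸ Ideal.span {f})] N := Finsupp.linearCombination _ id
    have hg : Function.Surjective g := Finsupp.linearCombination_id_surjective _ N
    let K := LinearMap.ker g
    let SA : ShortComplex (ModuleCat.{u} A) :=
      ModuleCat.shortComplexOfCompEqZero (K.subtype.restrictScalars A) (g.restrictScalars A)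
        (LinearMap.ext fun (a : K) => (LinearMap.mem_ker.1 a.2 : g a.1 = 0))
    let SB : ShortComplex (ModuleCat.{u} (A ⧸ Ideal.span {f})) :=
      ModuleCat.shortComplexOfCompEqZero K.subtype g
        (LinearMap.ext fun (a : K) => (LinearMap.mem_ker.1 a.2 : g a.1 = 0))
    have hSA : SA.ShortExact := ModuleCat.shortComplex_shortExact SA
      (fun a => LinearMap.exact_subtype_ker_map g a) Subtype.val_injective hg
    have hSB : SB.ShortExact := ModuleCat.shortComplex_shortExact SB
      (LinearMap.exact_subtype_ker_map g) Subtype.val_injective hg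
    have natural : ∀ ψ : (N →₀ (A ⧸ Ideal.span {f})) →ₗ[(A ⧸ Ideal.span {f})] (A ⧸ Ideal.span {f}), (Ext.mk₀ SA.f).comp (connHom f hf ψ) (zero_add 1) =
        connHom f hf (ψ ∘ₗ K.subtype) := fun ψ => Ext.mk₀_comp_mk₀_assoc ..
    constructor
    · intro h
      refine subsingleton_of_forall_eq 0 fun (x : Ext SA.X₃ _ 2) => ?_
      obtain ⟨x₁, rfl⟩ := Ext.contravariant_sequence_exact₃ hSA _ x
        (@Subsingleton.elim _ (subsingleton_ext_free f hf (N →₀ (A ⧸ Ideal.span {f})) le_rfl _) _ _) (n₀ := 1) rfl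
      obtain ⟨φ, rfl⟩ := connHom_surjective f hf x₁
      obtain ⟨ψ₀, hψ₀⟩ := Ext.contravariant_sequence_exact₁ hSB _ (Ext.mk₀ (X := SB.X₁) (ModuleCat.ofHom φ))
        (n₁ := 1) rfl (@Subsingleton.elim _ h _ _)
      obtain ⟨ψ, rfl⟩ := Ext.homEquiv₀.symm.surjective ψ₀
      rw [Ext.homEquiv₀_symm_apply, Ext.mk₀_comp_mk₀] at hψ₀
      have hψ : ψ.hom ∘ₗ K.subtype = φ := congrArg ModuleCat.Hom.hom ((Ext.mk₀_bijective _ _).1 hψ₀)
      rw [← hψ, ← natural]
      exact hSA.extClass_comp_assoc _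
    · intro h
      have : Projective SB.X₂ := (IsProjective.iff_projective (R := (A ⧸ Ideal.span {f})) _).1 inferInstance
      refine subsingleton_of_forall_eq 0 fun (x : Ext SB.X₃ _ 1) => ?_
      obtain ⟨x₁, rfl⟩ := Ext.contravariant_sequence_exact₃ hSB _ x
        (@Subsingleton.elim _ (Ext.subsingleton_of_projective SB.X₂ _ 0) _ _) (n₀ := 0) rfl
      obtain ⟨φ, rfl⟩ := Ext.homEquiv₀.symm.surjective x₁
      obtain ⟨z, hz⟩ := Ext.contravariant_sequence_exact₁ hSA _ (connHom f hf φ.hom) (n₁ := 2) rfl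
        (@Subsingleton.elim _ h _ _)
      obtain ⟨ψ, rfl⟩ := connHom_surjective f hf z
      rw [natural] at hz
      have hψ : SB.f ≫ ModuleCat.ofHom ψ = φ := ModuleCat.hom_ext (connHom_injective f hf hz)
      rw [Ext.homEquiv₀_symm_apply, ← hψ, ← Ext.mk₀_comp_mk₀]
      exact hSB.extClass_comp_assoc _
  | succ i ih =>
    intro N _ _ _ _
    let g : (N →₀ (A ⧸ Ideal.span {f})) →ₗ[(A ⧸ Ideal.span {f})] N := Finsupp.linearCombination _ id
    have hg : Function.Surjective g := Finsupp.linearCombination_id_surjective _ N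
    let K := LinearMap.ker g
    let SA : ShortComplex (ModuleCat.{u} A) :=
      ModuleCat.shortComplexOfCompEqZero (K.subtype.restrictScalars A) (g.restrictScalars A)
        (LinearMap.ext fun (a : K) => (LinearMap.mem_ker.1 a.2 : g a.1 = 0))
    let SB : ShortComplex (ModuleCat.{u} (A ⧸ Ideal.span {f})) :=
      ModuleCat.shortComplexOfCompEqZero K.subtype g
        (LinearMap.ext fun (a : K) => (LinearMap.mem_ker.1 a.2 : g a.1 = 0))
    have hSA : SA.ShortExact := ModuleCat.shortComplex_shortExact SA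
      (fun a => LinearMap.exact_subtype_ker_map g a) Subtype.val_injective hg
    have hSB : SB.ShortExact := ModuleCat.shortComplex_shortExact SB
      (LinearMap.exact_subtype_ker_map g) Subtype.val_injective hg
    have : Projective SB.X₂ := (IsProjective.iff_projective (R := (A ⧸ Ideal.span {f})) _).1 inferInstance
    have eA : Subsingleton (Ext SA.X₁ (ModuleCat.of A A) (i + 2)) ↔
        Subsingleton (Ext SA.X₃ (ModuleCat.of A A) (i + 3)) := by
      constructor <;> intro h <;> refine subsingleton_of_forall_eq 0 fun x => ?_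
      · obtain ⟨x₁, rfl⟩ := Ext.contravariant_sequence_exact₃ hSA _ x
          (@Subsingleton.elim _ (subsingleton_ext_free f hf (N →₀ (A ⧸ Ideal.span {f})) (by omega) _) _ _) (n₀ := i + 2) (by omega)
        rw [@Subsingleton.elim _ h x₁ 0, Ext.comp_zero]
      · obtain ⟨x₁, rfl⟩ := Ext.contravariant_sequence_exact₁ hSA _ x (n₁ := i + 3) (by omega)
          (@Subsingleton.elim _ h _ _)
        rw [@Subsingleton.elim _ (subsingleton_ext_free f hf (N →₀ (A ⧸ Ideal.span {f})) (i := i + 2) (by omega) _) x₁ 0]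
        exact Ext.comp_zero ..
    have eB : Subsingleton (Ext SB.X₁ (ModuleCat.of (A ⧸ Ideal.span {f}) (A ⧸ Ideal.span {f})) (i + 1)) ↔
        Subsingleton (Ext SB.X₃ (ModuleCat.of (A ⧸ Ideal.span {f}) (A ⧸ Ideal.span {f})) (i + 2)) := by
      constructor <;> intro h <;> refine subsingleton_of_forall_eq 0 fun x => ?_
      · obtain ⟨x₁, rfl⟩ := Ext.contravariant_sequence_exact₃ hSB _ x
          (@Subsingleton.elim _ (Ext.subsingleton_of_projective SB.X₂ _ (i + 1)) _ _) (n₀ := i + 1) (by omega)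
        rw [@Subsingleton.elim _ h x₁ 0, Ext.comp_zero]
      · obtain ⟨x₁, rfl⟩ := Ext.contravariant_sequence_exact₁ hSB _ x (n₁ := i + 2) (by omega)
          (@Subsingleton.elim _ h _ _)
        rw [@Subsingleton.elim _ (Ext.subsingleton_of_projective SB.X₂ _ i) x₁ 0, Ext.comp_zero]
    exact eB.symm.trans ((ih K).trans eA)

include hf in
/-- `A` is Gorenstein iff `A/(f)` is. -/
theorem isGorensteinLocalRing_quotient_iff [IsLocalRing A] [IsNoetherianRing A]
    (hfm : f ∈ maximalIdeal A) :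
    LocCoh.IsGorensteinLocalRing A ↔ LocCoh.IsGorensteinLocalRing (A ⧸ Ideal.span {f}) := by
  have : Nontrivial (A ⧸ Ideal.span {f}) := Ideal.Quotient.nontrivial_iff.mpr fun h =>
    (maximalIdeal.isMaximal A).ne_top (top_le_iff.mp (h.ge.trans ((Ideal.span_singleton_le_iff_mem _).mpr hfm)))
  have : IsLocalRing (A ⧸ Ideal.span {f}) := .of_surjective' (Ideal.Quotient.mk _) Ideal.Quotient.mk_surjective
  let e : ModuleCat.of A (ResidueField A) ≅ ModuleCat.of A (ResidueField (A ⧸ Ideal.span {f})) := by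
    refine LinearEquiv.toModuleIso ((Submodule.quotEquivOfEq _ _ ?_).trans
      ((Algebra.linearMap A (ResidueField (A ⧸ Ideal.span {f}))).quotKerEquivOfSurjective
        (IsLocalRing.residue_surjective.comp Ideal.Quotient.mk_surjective)))
    ext a
    change a ∈ maximalIdeal A ↔ residue (A ⧸ Ideal.span {f}) (Ideal.Quotient.mk _ a) = 0
    rw [residue_eq_zero_iff, mem_maximalIdeal, mem_maximalIdeal, mem_nonunits_iff, mem_nonunits_iff]
    have : IsLocalHom (Ideal.Quotient.mk (Ideal.span {f})) :=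
      .of_surjective (Ideal.Quotient.mk _) Ideal.Quotient.mk_surjective
    rw [isUnit_map_iff]
  have key : ∀ i, Subsingleton (Ext (ModuleCat.of (A ⧸ Ideal.span {f}) (ResidueField (A ⧸ Ideal.span {f}))) (ModuleCat.of (A ⧸ Ideal.span {f}) (A ⧸ Ideal.span {f})) (i + 1)) ↔
      Subsingleton (Ext (ModuleCat.of A (ResidueField A)) (ModuleCat.of A A) (i + 2)) := fun i => by
    rw [subsingleton_ext_quotient_iff f hf i (ResidueField (A ⧸ Ideal.span {f}))]
    constructor <;> intro h <;> refine subsingleton_of_forall_eq 0 fun x => ?_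
    · have := @Subsingleton.elim _ h ((Ext.mk₀ e.inv).comp x (zero_add _)) 0
      simpa [Ext.mk₀_comp_mk₀_assoc] using congrArg (fun t => (Ext.mk₀ e.hom).comp t (zero_add _)) this
    · have := @Subsingleton.elim _ h ((Ext.mk₀ e.hom).comp x (zero_add _)) 0
      simpa [Ext.mk₀_comp_mk₀_assoc] using congrArg (fun t => (Ext.mk₀ e.inv).comp t (zero_add _)) this
  constructor
  · intro h
    obtain ⟨n, hn⟩ := (exists_hasInjectiveDimensionLT_iff (ModuleCat.of A A)).mp h.exists_hasInjectiveDimensionLT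
    refine { exists_hasInjectiveDimensionLT :=
      (exists_hasInjectiveDimensionLT_iff (ModuleCat.of (A ⧸ Ideal.span {f}) (A ⧸ Ideal.span {f}))).mpr ⟨n + 1, fun i hi => ?_⟩ }
    obtain ⟨i, rfl⟩ : ∃ j, i = j + 1 := ⟨i - 1, by omega⟩
    exact (key i).mpr (hn _ (by omega))
  · intro h
    obtain ⟨n, hn⟩ := (exists_hasInjectiveDimensionLT_iff (ModuleCat.of (A ⧸ Ideal.span {f}) (A ⧸ Ideal.span {f}))).mp h.exists_hasInjectiveDimensionLT
    refine { exists_hasInjectiveDimensionLT :=
      (exists_hasInjectiveDimensionLT_iff (ModuleCat.of A A)).mpr ⟨n + 2, fun i hi => ?_⟩ }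
    obtain ⟨i, rfl⟩ : ∃ j, i = j + 2 := ⟨i - 2, by omega⟩
    exact (key i).mp (hn _ (by omega))

end Groth.Agent.GorenBasic
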