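import Groth.Agent.MatlisDual.FlatLocal
import Groth.Agent.Hensel.TrivialFibresAtPrime
import Groth.Agent.GorenBasic.ChangeRings
import Groth.Agent.GorenSG.Comm
import Groth.Agent.Depth.Basic
import Groth.Agent.S0341
import Mathlib.RingTheory.KrullDimension.Regular

/-!
# The Gorenstein property along a flat local map with `mB = m_B`
-/

set_option autoImplicit false

universe u

open IsLocalRing LocCoh InjHull TensorProduct

namespace Groth.Agent.GorenBasic

/-- An Artinian local ring is self-injective iff its socle is simple. -/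
theorem injective_self_iff_length_socle {A : Type u} [CommRing A] [IsLocalRing A]
    [IsNoetherianRing A] (hA : IsFiniteLength A A) :
    Module.Injective A A ↔ Module.length A (LocCoh.torsionBy (maximalIdeal A) A) = 1 := by
  have : IsArtinian A A := (isFiniteLength_iff_isNoetherian_isArtinian.mp hA).2
  have htor : LocCoh.IsPowerTorsion (maximalIdeal A) A := by
    intro x
    obtain ⟨n, hn⟩ := IsArtinianRing.isNilpotent_jacobson_bot (R := A)
    rw [IsLocalRing.jacobson_eq_maximalIdeal ⊥ (by simp)] at hn
    refine ⟨n, fun a ha => ?_⟩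
    rw [hn] at ha
    rw [show a = 0 from ha, zero_smul]
  obtain ⟨r, hr0, hr⟩ := MatlisDual.exists_socle (htor (1 : A)) one_ne_zero
  let x : LocCoh.torsionBy (maximalIdeal A) A :=
    ⟨r • (1 : A), (Submodule.mem_torsionBySet_iff _ _).mpr fun a => hr a a.2⟩
  have hx0 : x ≠ 0 := fun h => hr0 (congrArg Subtype.val h)
  rw [Module.length_eq_one_iff]
  constructor
  · intro hinj
    refine isSimpleModule_iff_toSpanSingleton_surjective.mpr ⟨nontrivial_of_ne x 0 hx0, ?_⟩
    intro y hy z
    have hkill : ∀ a ∈ maximalIdeal A, a * (y : A) = 0 := fun a ha =>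
      (Submodule.mem_torsionBySet_iff _ _).mp y.2 ⟨a, ha⟩
    have hzk : ∀ a ∈ maximalIdeal A, a * (z : A) = 0 := fun a ha =>
      (Submodule.mem_torsionBySet_iff _ _).mp z.2 ⟨a, ha⟩
    have hy' : (y : A) ≠ 0 := fun h => hy (Subtype.ext h)
    let iy : ResidueField A →ₗ[A] A := Submodule.liftQ (maximalIdeal A)
      (LinearMap.toSpanSingleton A A (y : A)) fun a ha => hkill a ha
    let iz : ResidueField A →ₗ[A] A := Submodule.liftQ (maximalIdeal A)
      (LinearMap.toSpanSingleton A A (z : A)) fun a ha => hzk a ha
    have hiy : Function.Injective iy := by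
      refine (injective_iff_map_eq_zero iy).mpr fun c hc => ?_
      obtain ⟨b, rfl⟩ := residue_surjective c
      refine (residue_eq_zero_iff b).mpr fun hb => hy' ?_
      exact (IsUnit.mul_right_eq_zero hb).mp (show b * (y : A) = 0 from hc)
    obtain ⟨h, hh⟩ := Module.Injective.extension_property A A _ _ iy hiy iz
    refine ⟨h 1, Subtype.ext ?_⟩
    have h1 : h (y : A) = (z : A) := by
      have := LinearMap.congr_fun hh (residue A 1)
      change h (iy (residue A 1)) = iz (residue A 1) at this
      change h ((1 : A) • (y : A)) = (1 : A) • (z : A) at this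
      simpa using this
    change h 1 * (y : A) = z
    rw [← h1, ← mul_one (y : A), ← smul_eq_mul (y : A) 1, map_smul, smul_eq_mul, smul_eq_mul,
      mul_one, mul_comm]
  · intro hs
    obtain ⟨E, _, _, f, hf⟩ := InjHullBasic.exists_isInjectiveHull A (ResidueField A)
    have := hf.isInjective
    obtain ⟨d, -⟩ := MatlisDual.exists_dual_residueField hf.toIsEssentialInj
    obtain ⟨e⟩ := MatlisDual.nonempty_equiv_residueField (R := A)
      (LocCoh.torsionBy (maximalIdeal A) A)
    obtain ⟨g, hg⟩ := Module.Injective.extension_property A E _ A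
      (LocCoh.torsionBy (maximalIdeal A) A).subtype (Submodule.subtype_injective _)
      (f ∘ₗ e.toLinearMap)
    have hginj : Function.Injective g := (injective_iff_map_eq_zero g).mpr fun y hy =>
      by_contra fun hy0 => by
        obtain ⟨b, hb, hsoc⟩ := MatlisDual.exists_socle (htor y) hy0
        have hmem : b • y ∈ LocCoh.torsionBy (maximalIdeal A) A :=
          (Submodule.mem_torsionBySet_iff _ _).mpr fun a => hsoc a a.2
        have h := LinearMap.congr_fun hg ⟨b • y, hmem⟩
        rw [LinearMap.comp_apply, Submodule.subtype_apply, map_smul, hy, smul_zero] at h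
        have h' : e ⟨b • y, hmem⟩ = 0 := (map_eq_zero_iff f hf.injective).mp h.symm
        exact hb (congrArg Subtype.val ((map_eq_zero_iff e e.injective).mp h'))
    have hlen : Module.length A E = Module.length A A := by
      rw [← (LinearMap.ringLmapEquivSelf A A E).length_eq, MatlisDual.length_dual hf hA]
    have hsum := Module.length_eq_add_of_exact g (LinearMap.range g).mkQ hginj
      (Submodule.mkQ_surjective _) (LinearMap.exact_map_mkQ_range g)
    rw [hlen] at hsum
    have h0 : Module.length A (E ⧸ LinearMap.range g) = 0 :=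
      ENat.add_right_injective_of_ne_top (Module.length_ne_top_iff.mpr hA)
        (hsum.symm.trans (add_zero _).symm)
    have hsurj : Function.Surjective g := LinearMap.range_eq_top.mp
      (Submodule.Quotient.subsingleton_iff.mp (Module.length_eq_zero_iff.mp h0))
    let eE : A ≃ₗ[A] E := LinearEquiv.ofBijective g ⟨hginj, hsurj⟩
    exact Module.Baer.injective (Module.Baer.of_equiv eE.symm (Module.Baer.of_injective hf.isInjective))

variable {A B : Type u} [CommRing A] [IsLocalRing A] [CommRing B] [IsLocalRing B] [Algebra A B]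
  [Module.Flat A B] [IsNoetherianRing A] [IsNoetherianRing B]

/-- The socle has the same length after flat base change with `mB = m_B`. -/
theorem length_socle_eq (hm : (maximalIdeal A).map (algebraMap A B) = maximalIdeal B)
    (hA : IsFiniteLength A A) :
    Module.length B (LocCoh.torsionBy (maximalIdeal B) B) =
      Module.length A (LocCoh.torsionBy (maximalIdeal A) A) := by
  have hk : Module.length B (B ⊗[A] ResidueField A) = 1 := by
    refine (Algebra.TensorProduct.quotIdealMapEquivTensorQuot B
      (maximalIdeal A)).toLinearEquiv.length_eq.symm.trans ?_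
    rw [hm]
    exact Module.length_eq_one_iff.mpr
      (isSimpleModule_iff_isCoatom.mpr (maximalIdeal.isMaximal B).out)
  have hflS : IsFiniteLength A (LocCoh.torsionBy (maximalIdeal A) A) :=
    Module.length_ne_top_iff.mp (ne_top_of_le_ne_top (Module.length_ne_top_iff.mpr hA)
      (Module.length_le_of_injective _ (Submodule.subtype_injective _)))
  have h1 := MatlisDual.range_baseChange_torsionBy (A := A) (B := B) (a := maximalIdeal A)
    (maximalIdeal A).fg_of_isNoetherianRing A
  rw [hm] at h1
  let e : B ⊗[A] A ≃ₗ[B] B := (Algebra.TensorProduct.rid A B B).toLinearEquiv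
  have h2 : (LocCoh.torsionBy (maximalIdeal B) (B ⊗[A] A)).map e.toLinearMap =
      LocCoh.torsionBy (maximalIdeal B) B := by
    ext y
    constructor
    · rintro ⟨z, hz, rfl⟩
      refine (Submodule.mem_torsionBySet_iff _ _).mpr fun a => ?_
      change (a : B) • e z = 0
      rw [← map_smul, (Submodule.mem_torsionBySet_iff _ _).mp hz a, map_zero]
    · intro hy
      refine ⟨e.symm y, (Submodule.mem_torsionBySet_iff _ _).mpr fun a => ?_, e.apply_symm_apply y⟩
      change (a : B) • e.symm y = 0
      rw [← map_smul, (Submodule.mem_torsionBySet_iff _ _).mp hy a, map_zero]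
  rw [← h2, ← h1, ← LinearMap.range_comp]
  refine (LinearEquiv.length_eq (LinearEquiv.ofInjective
    (e.toLinearMap ∘ₗ (LocCoh.torsionBy (maximalIdeal A) A).subtype.baseChange B)
    (e.injective.comp (MatlisDual.baseChange_subtype_injective
      (LocCoh.torsionBy (maximalIdeal A) A))))).symm.trans ?_
  rw [MatlisDual.length_baseChange hflS, hk, mul_one]

omit [IsLocalRing B] [Module.Flat A B] in
theorem map_quotient_eq (f : A) :
    (Ideal.span {f}).map (algebraMap A B) = Ideal.span {algebraMap A B f} := by
  rw [Ideal.map_span, Set.image_singleton]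

/-- Gorenstein ascends and descends along a flat local map with `mB = m_B`. -/
theorem isGorensteinLocalRing_iff_of_map_eq
    (hm : (maximalIdeal A).map (algebraMap A B) = maximalIdeal B) :
    LocCoh.IsGorensteinLocalRing B ↔ LocCoh.IsGorensteinLocalRing A := by
  obtain ⟨n, hn⟩ : ∃ n : ℕ, ringKrullDim A = n := by
    obtain ⟨d, hd⟩ : ∃ d : ℕ, (maximalIdeal A).height = d :=
      ⟨_, (ENat.natCast_toNat (Ideal.height_ne_top Ideal.IsPrime.ne_top')).symm⟩
    exact ⟨d, by rw [← maximalIdeal_height_eq_ringKrullDim, hd]; rfl⟩
  induction n generalizing A B with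
  | zero =>
    have : IsLocalHom (algebraMap A B) := ((local_hom_TFAE _).out 2 0 rfl rfl).mp hm.le
    have : Module.FaithfullyFlat A B := Module.FaithfullyFlat.of_flat_of_isLocalHom
    have hB0 : ringKrullDim B = 0 :=
      (Hensel.ringKrullDim_eq_of_faithfullyFlat hm).trans (by exact_mod_cast hn)
    have : Ring.KrullDimLE 0 A := Ring.krullDimLE_iff.mpr hn.le
    have : Ring.KrullDimLE 0 B := Ring.krullDimLE_iff.mpr (by exact_mod_cast hB0.le)
    have : IsArtinianRing A := isArtinianRing_iff_krullDimLE_zero.mpr inferInstance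
    have : IsArtinianRing B := isArtinianRing_iff_krullDimLE_zero.mpr inferInstance
    have hA : IsFiniteLength A A := isFiniteLength_iff_isNoetherian_isArtinian.mpr ⟨inferInstance, inferInstance⟩
    have hB : IsFiniteLength B B := isFiniteLength_iff_isNoetherian_isArtinian.mpr ⟨inferInstance, inferInstance⟩
    have key : Module.Injective B B ↔ Module.Injective A A := by
      rw [injective_self_iff_length_socle hA, injective_self_iff_length_socle hB,
        length_socle_eq hm hA]
    constructor
    · intro h
      have := key.mp (GorenSG.injective_of_gorenstein h hB0)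
      exact GorenSG.gorenstein_of_injective
    · intro h
      have := key.mpr (GorenSG.injective_of_gorenstein h (by exact_mod_cast hn))
      exact GorenSG.gorenstein_of_injective
  | succ n ih =>
    have : IsLocalHom (algebraMap A B) := ((local_hom_TFAE _).out 2 0 rfl rfl).mp hm.le
    have : Module.FaithfullyFlat A B := Module.FaithfullyFlat.of_flat_of_isLocalHom
    suffices H : LocCoh.IsCohenMacaulayLocalRing A →
        (LocCoh.IsGorensteinLocalRing B ↔ LocCoh.IsGorensteinLocalRing A) from
      ⟨fun h => (H ((Hensel.isCohenMacaulayLocalRing_iff hm).mp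
          (S0341.result B))).mp h,
        fun h => (H (S0341.result A)).mpr h⟩
    intro hCM
    obtain ⟨f, hf, hreg⟩ : ∃ f ∈ maximalIdeal A, IsSMulRegular A f := by
      have h0 : ¬ LocCoh.depth A A = 0 := fun h => by
        have := hCM.supportDim_eq_depth
        rw [Module.supportDim_self_eq_ringKrullDim, hn, h] at this
        have h3 : ((n + 1 : ℕ) : WithBot ℕ∞) = ((0 : ℕ) : WithBot ℕ∞) := this
        exact Nat.succ_ne_zero n (by exact_mod_cast h3)
      have h1 : (1 : ℕ∞) ≤ LocCoh.idealDepth (maximalIdeal A) A := Order.one_le_iff_pos.mpr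
        (pos_iff_ne_zero.mpr h0)
      exact (Depth.one_le_idealDepth_iff Depth.maximalIdeal_smul_top_ne_top).mp h1
    have hfB : algebraMap A B f ∈ maximalIdeal B := hm ▸ Ideal.mem_map_of_mem _ hf
    have hregB : IsSMulRegular B (algebraMap A B f) :=
      hreg.of_flat (S := B)
    rw [isGorensteinLocalRing_quotient_iff f hreg hf,
      isGorensteinLocalRing_quotient_iff (algebraMap A B f) hregB hfB]
    have hI : Ideal.span {f} ≠ ⊤ := fun h => (maximalIdeal.isMaximal A).ne_top
      (top_le_iff.mp (h ▸ (Ideal.span_singleton_le_iff_mem _).mpr hf))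
    have hJ : Ideal.span {algebraMap A B f} ≠ ⊤ := fun h => (maximalIdeal.isMaximal B).ne_top
      (top_le_iff.mp (h ▸ (Ideal.span_singleton_le_iff_mem _).mpr hfB))
    have : Nontrivial (A ⧸ Ideal.span {f}) := Ideal.Quotient.nontrivial_iff.mpr hI
    have : IsLocalRing (A ⧸ Ideal.span {f}) := .of_surjective' _ Ideal.Quotient.mk_surjective
    have : Nontrivial (B ⧸ Ideal.span {algebraMap A B f}) := Ideal.Quotient.nontrivial_iff.mpr hJ
    have : IsLocalRing (B ⧸ Ideal.span {algebraMap A B f}) :=
      .of_surjective' _ Ideal.Quotient.mk_surjective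
    let Q := B ⧸ (Ideal.span {f}).map (algebraMap A B)
    have hQe := map_quotient_eq (B := B) f
    let eQ : Q ≃+* B ⧸ Ideal.span {algebraMap A B f} := Ideal.quotEquivOfEq hQe
    have : IsLocalRing Q := eQ.symm.isLocalRing
    have hflat : Module.Flat (A ⧸ Ideal.span {f}) Q :=
      Module.Flat.of_linearEquiv (Algebra.TensorProduct.quotIdealMapEquivQuotTensor B
        (Ideal.span {f})).toLinearEquiv
    have hmap : (maximalIdeal (A ⧸ Ideal.span {f})).map (algebraMap (A ⧸ Ideal.span {f}) Q) =
        maximalIdeal Q := by
      have e1 := (IsLocalRing.map_maximalIdeal_of_surjective (Ideal.Quotient.mk (Ideal.span {f}))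
        Ideal.Quotient.mk_surjective)
      have e2 := (IsLocalRing.map_maximalIdeal_of_surjective
        (Ideal.Quotient.mk ((Ideal.span {f}).map (algebraMap A B))) Ideal.Quotient.mk_surjective)
      rw [← e1, ← e2, ← hm, Ideal.map_map, Ideal.map_map]
      rfl
    have hdim : ringKrullDim (A ⧸ Ideal.span {f}) = n := by
      have h := ringKrullDim_quotient_span_singleton_succ_eq_ringKrullDim hreg hf
      rw [hn, Nat.cast_succ] at h
      exact ENat.WithBot.add_one_cancel.mp h
    have h3 := ih (A := A ⧸ Ideal.span {f}) (B := Q) hmap hdim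
    exact ⟨fun h => h3.mp (GorenSG.gorenstein_of_ringEquiv eQ h),
      fun h => GorenSG.gorenstein_of_ringEquiv eQ.symm (h3.mpr h)⟩

end Groth.Agent.GorenBasic
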