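import Groth.Agent.GorenBasic.TrivialFibre
import Groth.Agent.FlatLocalDepth.Basic
import Groth.Agent.Depth.CM
import Groth.Agent.FlatLocalDepth.Comp
import Mathlib.RingTheory.Ideal.Quotient.Operations

/-!
# The Gorenstein property along a flat local map: base and closed fibre
-/

set_option autoImplicit false

universe u

open IsLocalRing LocCoh InjHull TensorProduct RingTheory.Sequence

namespace Groth.Agent.GorenBasic

/-- The socle is simple, elementwise. -/
def SimpleSocle (A : Type u) [CommRing A] [IsLocalRing A] : Prop :=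
  ∀ y z : A, (∀ a ∈ maximalIdeal A, a * y = 0) → (∀ a ∈ maximalIdeal A, a * z = 0) → y ≠ 0 →
    ∃ r, z = r * y

theorem exists_socle_ne_zero (A : Type u) [CommRing A] [IsLocalRing A] [IsArtinianRing A] :
    ∃ y : A, y ≠ 0 ∧ ∀ a ∈ maximalIdeal A, a * y = 0 := by
  obtain ⟨n, hn⟩ := IsArtinianRing.isNilpotent_jacobson_bot (R := A)
  rw [IsLocalRing.jacobson_eq_maximalIdeal ⊥ (by simp)] at hn
  obtain ⟨r, hr0, hr⟩ := MatlisDual.exists_socle (I := maximalIdeal A) (y := (1 : A))
    ⟨n, fun a ha => by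
      rw [hn] at ha
      rw [show a = 0 from ha, zero_smul]⟩ one_ne_zero
  exact ⟨r, by simpa using hr0, fun a ha => by simpa using hr a ha⟩

theorem injective_self_iff_simpleSocle {A : Type u} [CommRing A] [IsLocalRing A]
    [IsNoetherianRing A] [IsArtinianRing A] : Module.Injective A A ↔ SimpleSocle A := by
  rw [injective_self_iff_length_socle
    (isFiniteLength_iff_isNoetherian_isArtinian.mpr ⟨inferInstance, inferInstance⟩),
    Module.length_eq_one_iff, isSimpleModule_iff_toSpanSingleton_surjective]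
  have hmem : ∀ y : A, y ∈ LocCoh.torsionBy (maximalIdeal A) A ↔ ∀ a ∈ maximalIdeal A, a * y = 0 :=
    fun y => (Submodule.mem_torsionBySet_iff _ _).trans
      ⟨fun h a ha => h ⟨a, ha⟩, fun h a => h a a.2⟩
  constructor
  · rintro ⟨-, h⟩ y z hy hz hy0
    obtain ⟨r, hr⟩ := h ⟨y, (hmem y).mpr hy⟩ (fun h0 => hy0 (congrArg Subtype.val h0))
      ⟨z, (hmem z).mpr hz⟩
    exact ⟨r, (congrArg Subtype.val hr).symm⟩
  · intro h
    obtain ⟨y, hy0, hy⟩ := exists_socle_ne_zero A
    refine ⟨nontrivial_of_ne (⟨y, (hmem y).mpr hy⟩ : LocCoh.torsionBy (maximalIdeal A) A) 0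
      (fun h0 => hy0 (congrArg Subtype.val h0)), fun p hp q => ?_⟩
    obtain ⟨r, hr⟩ := h p q ((hmem _).mp p.2) ((hmem _).mp q.2) (fun h0 => hp (Subtype.ext h0))
    exact ⟨r, Subtype.ext hr.symm⟩

/-- A Cohen–Macaulay local ring modulo a regular element is Cohen–Macaulay. -/
theorem isCohenMacaulayLocalRing_quotient {L : Type u} [CommRing L] [IsLocalRing L]
    [IsNoetherianRing L] (y : L) (hL : LocCoh.IsCohenMacaulayLocalRing L) (hy : y ∈ maximalIdeal L)
    (hreg : IsSMulRegular L y) : LocCoh.IsCohenMacaulayLocalRing (L ⧸ Ideal.span {y}) := by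
  have : Nontrivial (L ⧸ Ideal.span {y}) := Ideal.Quotient.nontrivial_iff.2 fun h =>
    (maximalIdeal.isMaximal L).ne_top (top_le_iff.1 (h ▸ (Ideal.span_singleton_le_iff_mem _).2 hy))
  have : IsLocalRing (L ⧸ Ideal.span {y}) := .of_surjective' _ Ideal.Quotient.mk_surjective
  let e : QuotSMulTop y L ≃ₗ[L] L ⧸ Ideal.span {y} := Submodule.quotEquivOfEq _ _ (by
    rw [← Submodule.ideal_span_singleton_smul]; simp)
  have h := (Depth.isCohenMacaulayModule_quotSMulTop_iff (R := L) (M := L) hy hreg).2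
    Depth.isCohenMacaulayModule_self
  rw [IsCohenMacaulayModule, Module.supportDim_eq_of_equiv e,
    Depth.depth_congr e, Module.supportDim_quotient_eq_ringKrullDim,
    ← Depth.depth_eq_of_surjective (R := L) (S := L ⧸ Ideal.span {y}) (M := L ⧸ Ideal.span {y})
      Ideal.Quotient.mk_surjective] at h
  exact Depth.isCohenMacaulayLocalRing_iff.2 h

variable {A B : Type u} [CommRing A] [IsLocalRing A] [CommRing B] [IsLocalRing B] [Algebra A B]
  [Module.Flat A B]

omit [IsLocalRing B] in
/-- `b ⊗ x = 0` forces `b ∈ mB`, for `x ≠ 0` killed by `m`. -/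
theorem mem_map_of_tmul_eq_zero {M : Type u} [AddCommGroup M] [Module A M] {x : M} (hx0 : x ≠ 0)
    (hx : ∀ a ∈ maximalIdeal A, a • x = 0) {b : B} (h : b ⊗ₜ[A] x = 0) :
    b ∈ (maximalIdeal A).map (algebraMap A B) := by
  let g : (A ⧸ maximalIdeal A) →ₗ[A] M :=
    Submodule.liftQ (maximalIdeal A) (LinearMap.toSpanSingleton A M x) hx
  have hg : Function.Injective g := (injective_iff_map_eq_zero g).mpr fun c hc => by
    obtain ⟨r, rfl⟩ := Ideal.Quotient.mk_surjective c
    refine Ideal.Quotient.eq_zero_iff_mem.mpr ((mem_maximalIdeal r).mpr fun hr => hx0 ?_)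
    exact hr.smul_eq_zero.mp (show r • x = 0 from hc)
  have h1 : g.lTensor B (b ⊗ₜ[A] Ideal.Quotient.mk (maximalIdeal A) 1) = 0 := by
    rw [LinearMap.lTensor_tmul, show g (Ideal.Quotient.mk (maximalIdeal A) 1) = (1 : A) • x from rfl,
      one_smul, h]
  rw [map_eq_zero_iff _ (Module.Flat.lTensor_preserves_injective_linearMap g hg), map_one] at h1
  rw [← Ideal.Quotient.eq_zero_iff_mem]
  exact (map_eq_zero_iff _ (Algebra.TensorProduct.quotIdealMapEquivTensorQuot B
    (maximalIdeal A)).injective).mp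
      (by rw [Algebra.TensorProduct.quotIdealMapEquivTensorQuot_mk]; exact h1)

variable [IsNoetherianRing A] [IsNoetherianRing B] [IsLocalHom (algebraMap A B)]

omit [IsNoetherianRing B] in
theorem simpleSocle_iff [IsArtinianRing A]
    [IsLocalRing (B ⧸ (maximalIdeal A).map (algebraMap A B))]
    [IsArtinianRing (B ⧸ (maximalIdeal A).map (algebraMap A B))] :
    SimpleSocle B ↔ SimpleSocle A ∧ SimpleSocle (B ⧸ (maximalIdeal A).map (algebraMap A B)) := by
  set I := (maximalIdeal A).map (algebraMap A B) with hIdef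
  have hImk : ∀ a : B ⧸ I, a ∈ maximalIdeal (B ⧸ I) ↔
      ∃ a' ∈ maximalIdeal B, Ideal.Quotient.mk I a' = a := by
    intro a
    rw [← IsLocalRing.map_maximalIdeal_of_surjective (Ideal.Quotient.mk I)
      Ideal.Quotient.mk_surjective, Ideal.mem_map_iff_of_surjective _ Ideal.Quotient.mk_surjective]
  have hann : ∀ x : A, (∀ a ∈ maximalIdeal A, a * x = 0) → ∀ b ∈ I, b * algebraMap A B x = 0 := by
    intro x hx b hb
    induction hb using Submodule.span_induction with
    | mem c hc =>
      obtain ⟨r, hr, rfl⟩ := hc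
      rw [← map_mul, hx r hr, map_zero]
    | zero => rw [zero_mul]
    | add c d _ _ hc hd => rw [add_mul, hc, hd, add_zero]
    | smul c d _ hd => rw [smul_eq_mul, mul_assoc, hd, mul_zero]
  have hmem : ∀ x : A, x ≠ 0 → (∀ a ∈ maximalIdeal A, a * x = 0) →
      ∀ b : B, b * algebraMap A B x = 0 → b ∈ I := by
    intro x hx0 hx b hb
    refine mem_map_of_tmul_eq_zero hx0 hx ((Algebra.TensorProduct.rid A B B).injective ?_)
    rw [map_zero, Algebra.TensorProduct.rid_tmul, Algebra.smul_def, mul_comm, hb]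
  constructor
  · intro hB
    obtain ⟨w', hw0, hw⟩ := exists_socle_ne_zero (B ⧸ I)
    obtain ⟨w, rfl⟩ := Ideal.Quotient.mk_surjective w'
    have hwx : ∀ x : A, (∀ a ∈ maximalIdeal A, a * x = 0) →
        ∀ a ∈ maximalIdeal B, a * (w * algebraMap A B x) = 0 := by
      intro x hx a ha
      rw [← mul_assoc]
      refine hann x hx _ (Ideal.Quotient.eq_zero_iff_mem.mp ?_)
      rw [map_mul]
      exact hw _ ((hImk _).mpr ⟨a, ha, rfl⟩)
    refine ⟨fun y z hy hz hy0 => ?_, fun y' z' hy hz hy0 => ?_⟩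
    · obtain ⟨r, hr⟩ := hB (w * algebraMap A B y) (w * algebraMap A B z) (hwx y hy) (hwx z hz)
        (fun h => hw0 (Ideal.Quotient.eq_zero_iff_mem.mpr (hmem y hy0 hy w h)))
      by_contra hne
      refine hw0 (Ideal.Quotient.eq_zero_iff_mem.mpr
        (mem_map_of_tmul_eq_zero (M := A ⧸ Ideal.span {y})
          (x := Ideal.Quotient.mk _ z) (fun h0 => hne ?_) (fun a ha => ?_) ?_))
      · obtain ⟨c, hc⟩ := Ideal.mem_span_singleton'.mp (Ideal.Quotient.eq_zero_iff_mem.mp h0)
        exact ⟨c, hc.symm⟩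
      · rw [Algebra.smul_def, Ideal.Quotient.algebraMap_eq, ← map_mul, hz a ha, map_zero]
      · refine (Algebra.TensorProduct.quotIdealMapEquivTensorQuot B (Ideal.span {y})).symm.injective ?_
        rw [map_zero, Algebra.TensorProduct.quotIdealMapEquivTensorQuot_symm_tmul]
        refine Ideal.Quotient.eq_zero_iff_mem.mpr ?_
        rw [Ideal.map_span, Set.image_singleton,
          Ideal.mem_span_singleton']
        exact ⟨r * w, by rw [Algebra.smul_def, mul_comm (algebraMap A B z), hr, mul_assoc]⟩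
    · obtain ⟨x, hx0, hx⟩ := exists_socle_ne_zero A
      obtain ⟨b, rfl⟩ := Ideal.Quotient.mk_surjective y'
      obtain ⟨c, rfl⟩ := Ideal.Quotient.mk_surjective z'
      have hk : ∀ e : B, (∀ a ∈ maximalIdeal (B ⧸ I), a * Ideal.Quotient.mk I e = 0) →
          ∀ a ∈ maximalIdeal B, a * (e * algebraMap A B x) = 0 := by
        intro e he a ha
        rw [← mul_assoc]
        refine hann x hx _ (Ideal.Quotient.eq_zero_iff_mem.mp ?_)
        rw [map_mul]
        exact he _ ((hImk _).mpr ⟨a, ha, rfl⟩)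
      obtain ⟨r, hr⟩ := hB (b * algebraMap A B x) (c * algebraMap A B x) (hk b hy) (hk c hz)
        (fun h => hy0 (Ideal.Quotient.eq_zero_iff_mem.mpr (hmem x hx0 hx b h)))
      refine ⟨Ideal.Quotient.mk I r, ?_⟩
      rw [← map_mul, Ideal.Quotient.eq]
      exact hmem x hx0 hx _ (by rw [sub_mul, hr, mul_assoc, sub_self])
  · rintro ⟨hA, hF⟩ y z hy hz hy0
    obtain ⟨x, hx0, hx⟩ := exists_socle_ne_zero A
    have hI : I ≤ maximalIdeal B :=
      ((local_hom_TFAE (algebraMap A B)).out 0 2 rfl rfl).1 inferInstance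
    have hrep : ∀ e : B, (∀ a ∈ maximalIdeal B, a * e = 0) →
        ∃ b, e = b * algebraMap A B x := by
      intro e he
      have hmemT : (Algebra.TensorProduct.rid A B B).symm e ∈
          LocCoh.torsionBy I (B ⊗[A] A) := (Submodule.mem_torsionBySet_iff _ _).mpr fun a => by
        refine (Algebra.TensorProduct.rid A B B).injective ?_
        rw [map_zero]
        change (Algebra.TensorProduct.rid A B B).toLinearEquiv
          ((a : B) • (Algebra.TensorProduct.rid A B B).symm e) = 0
        rw [map_smul]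
        change (a : B) • (Algebra.TensorProduct.rid A B B)
          ((Algebra.TensorProduct.rid A B B).symm e) = 0
        rw [AlgEquiv.apply_symm_apply, smul_eq_mul]
        exact he a (hI a.2)
      rw [hIdef, ← MatlisDual.range_baseChange_torsionBy (maximalIdeal A).fg_of_isNoetherianRing A]
        at hmemT
      obtain ⟨t, ht⟩ := hmemT
      rw [← (Algebra.TensorProduct.rid A B B).apply_symm_apply e, ← ht]
      clear ht he
      induction t using TensorProduct.induction_on with
      | zero => exact ⟨0, by simp⟩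
      | add p q hp hq =>
        obtain ⟨b, hb⟩ := hp
        obtain ⟨c, hc⟩ := hq
        exact ⟨b + c, by rw [map_add, map_add, hb, hc, add_mul]⟩
      | tmul b s =>
        obtain ⟨r, hr⟩ := hA x (s : A) hx
          (fun a ha => (Submodule.mem_torsionBySet_iff _ _).mp s.2 ⟨a, ha⟩) hx0
        refine ⟨algebraMap A B r * b, ?_⟩
        rw [LinearMap.baseChange_tmul, Submodule.subtype_apply, Algebra.TensorProduct.rid_tmul,
          hr, Algebra.smul_def, map_mul]
        ring
    obtain ⟨b, rfl⟩ := hrep y hy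
    obtain ⟨c, rfl⟩ := hrep z hz
    have hk : ∀ e : B, (∀ a ∈ maximalIdeal B, a * (e * algebraMap A B x) = 0) →
        ∀ a ∈ maximalIdeal (B ⧸ I), a * Ideal.Quotient.mk I e = 0 := by
      intro e he a ha
      obtain ⟨a', ha', rfl⟩ := (hImk a).mp ha
      rw [← map_mul, Ideal.Quotient.eq_zero_iff_mem]
      exact hmem x hx0 hx _ (by rw [mul_assoc, he a' ha'])
    obtain ⟨r', hr⟩ := hF _ _ (hk b hy) (hk c hz)
      (fun h => hy0 (hann x hx b (Ideal.Quotient.eq_zero_iff_mem.mp h)))
    obtain ⟨r, rfl⟩ := Ideal.Quotient.mk_surjective r'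
    rw [← map_mul, Ideal.Quotient.eq] at hr
    refine ⟨r, ?_⟩
    have := hann x hx _ hr
    rw [sub_mul, sub_eq_zero] at this
    rw [this, mul_assoc]

/-- The core of the flat local criterion: base and fibre Cohen–Macaulay of given dimensions. -/
theorem gorenstein_iff_of_cm : ∀ (N : ℕ) (A B : Type u) [CommRing A] [IsLocalRing A]
    [IsNoetherianRing A] [CommRing B] [IsLocalRing B] [IsNoetherianRing B] [Algebra A B]
    [IsLocalHom (algebraMap A B)] [Module.Flat A B] (p q : ℕ), p + q = N → ringKrullDim A = p →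
    ringKrullDim (B ⧸ (maximalIdeal A).map (algebraMap A B)) = q →
    LocCoh.IsCohenMacaulayLocalRing A →
    LocCoh.IsCohenMacaulayLocalRing (B ⧸ (maximalIdeal A).map (algebraMap A B)) →
    (LocCoh.IsGorensteinLocalRing B ↔ LocCoh.IsGorensteinLocalRing A ∧
      LocCoh.IsGorensteinLocalRing (B ⧸ (maximalIdeal A).map (algebraMap A B))) := by
  intro N
  induction N using Nat.strong_induction_on with
  | _ N IH =>
  intro A B _ _ _ _ _ _ _ _ _ p q hN hp hq hCA hCF
  set I := (maximalIdeal A).map (algebraMap A B) with hIdef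
  have hI : I ≤ maximalIdeal B := FlatLocalDepth.map_maximalIdeal_le A B
  have : Nontrivial (B ⧸ I) := FlatLocalDepth.nontrivial_fibre A B
  have : IsLocalRing (B ⧸ I) := .of_surjective' _ Ideal.Quotient.mk_surjective
  have hex : ∀ (R : Type u) [CommRing R] [IsLocalRing R] [IsNoetherianRing R] (m : ℕ),
      LocCoh.IsCohenMacaulayLocalRing R → ringKrullDim R = ((m + 1 : ℕ) : WithBot ℕ∞) →
      ∃ f ∈ maximalIdeal R, IsSMulRegular R f := by
    intro R _ _ _ m hR hd
    have h0 : ¬ LocCoh.depth R R = 0 := fun h => by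
      have := hR.supportDim_eq_depth
      rw [Module.supportDim_self_eq_ringKrullDim, hd, h] at this
      have h3 : ((m + 1 : ℕ) : WithBot ℕ∞) = ((0 : ℕ) : WithBot ℕ∞) := this
      exact Nat.succ_ne_zero m (by exact_mod_cast h3)
    have h1 : (1 : ℕ∞) ≤ LocCoh.idealDepth (maximalIdeal R) R :=
      Order.one_le_iff_pos.mpr (pos_iff_ne_zero.mpr h0)
    exact (Depth.one_le_idealDepth_iff Depth.maximalIdeal_smul_top_ne_top).mp h1
  have hquot : ∀ (R : Type u) [CommRing R] [IsLocalRing R] [IsNoetherianRing R] (m : ℕ) (f : R),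
      LocCoh.IsCohenMacaulayLocalRing R → f ∈ maximalIdeal R → IsSMulRegular R f →
      ringKrullDim R = ((m + 1 : ℕ) : WithBot ℕ∞) →
      ringKrullDim (R ⧸ Ideal.span {f}) = m ∧ LocCoh.IsCohenMacaulayLocalRing (R ⧸ Ideal.span {f}) := by
    intro R _ _ _ m f hR hf hreg hd
    refine ⟨?_, ?_⟩
    · have h := ringKrullDim_quotient_span_singleton_succ_eq_ringKrullDim hreg hf
      rw [hd, Nat.cast_succ] at h
      exact ENat.WithBot.add_one_cancel.mp h
    · exact isCohenMacaulayLocalRing_quotient f hR hf hreg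
  match p, q with
  | p + 1, q =>
    obtain ⟨f, hf, hreg⟩ := hex A p hCA hp
    obtain ⟨hdA, hCA'⟩ := hquot A p f hCA hf hreg hp
    have hfI : algebraMap A B f ∈ I := Ideal.mem_map_of_mem _ hf
    have hregB : IsSMulRegular B (algebraMap A B f) := hreg.of_flat (S := B)
    rw [isGorensteinLocalRing_quotient_iff f hreg hf,
      isGorensteinLocalRing_quotient_iff (algebraMap A B f) hregB (hI hfI)]
    have hspan : (Ideal.span {f}).map (algebraMap A B) = Ideal.span {algebraMap A B f} :=
      map_quotient_eq f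
    let Q := B ⧸ (Ideal.span {f}).map (algebraMap A B)
    let eQ : Q ≃+* B ⧸ Ideal.span {algebraMap A B f} := Ideal.quotEquivOfEq hspan
    have : Nontrivial Q := Ideal.Quotient.nontrivial_iff.mpr (ne_top_of_le_ne_top
      (maximalIdeal.isMaximal B).ne_top
      (hspan ▸ (Ideal.span_singleton_le_iff_mem _).mpr (hI hfI)))
    have : IsLocalRing Q := .of_surjective' _ Ideal.Quotient.mk_surjective
    have := hCA'.2
    have : IsLocalHom (Ideal.Quotient.mk ((Ideal.span {f}).map (algebraMap A B))) :=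
      IsLocalHom.of_surjective _ Ideal.Quotient.mk_surjective
    have : IsLocalHom (algebraMap (A ⧸ Ideal.span {f}) Q) := by
      refine ⟨fun y hy => ?_⟩
      obtain ⟨x, rfl⟩ := Ideal.Quotient.mk_surjective y
      exact (IsUnit.of_map (algebraMap A B) x
        (IsUnit.of_map (Ideal.Quotient.mk ((Ideal.span {f}).map (algebraMap A B))) _ hy)).map _
    have : Module.Flat (A ⧸ Ideal.span {f}) Q :=
      Module.Flat.of_linearEquiv (Algebra.TensorProduct.quotIdealMapEquivQuotTensor B
        (Ideal.span {f})).toLinearEquiv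
    have hle : (Ideal.span {f}).map (algebraMap A B) ≤ I :=
      hspan ▸ (Ideal.span_singleton_le_iff_mem _).mpr hfI
    have hmI : (maximalIdeal (A ⧸ Ideal.span {f})).map (algebraMap (A ⧸ Ideal.span {f}) Q) =
        I.map (Ideal.Quotient.mk ((Ideal.span {f}).map (algebraMap A B))) := by
      rw [← IsLocalRing.map_maximalIdeal_of_surjective (Ideal.Quotient.mk (Ideal.span {f}))
        Ideal.Quotient.mk_surjective]
      exact (Ideal.map_map _ _).trans (Ideal.map_map (algebraMap A B)
        (Ideal.Quotient.mk ((Ideal.span {f}).map (algebraMap A B)))).symm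
    let eF : Q ⧸ (maximalIdeal (A ⧸ Ideal.span {f})).map (algebraMap (A ⧸ Ideal.span {f}) Q) ≃+*
        B ⧸ I := (Ideal.quotEquivOfEq hmI).trans (DoubleQuot.quotQuotEquivQuotOfLE hle)
    have h3 := IH (p + q) (by omega) (A ⧸ Ideal.span {f}) Q p q rfl hdA
      ((ringKrullDim_eq_of_ringEquiv eF).trans hq) hCA'
      (@FlatLocalDepth.isCohenMacaulayLocalRing_of_ringEquiv _ _ _ _ hCF eF.symm)
    exact ⟨fun h => let ⟨h1, h2⟩ := h3.mp (GorenSG.gorenstein_of_ringEquiv eQ h)
        ⟨h1, GorenSG.gorenstein_of_ringEquiv eF.symm h2⟩,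
      fun ⟨h1, h2⟩ => GorenSG.gorenstein_of_ringEquiv eQ.symm
        (h3.mpr ⟨h1, GorenSG.gorenstein_of_ringEquiv eF h2⟩)⟩
  | 0, q + 1 =>
    obtain ⟨b', hb', hreg'⟩ := hex (B ⧸ I) q hCF hq
    obtain ⟨hdF, hCF'⟩ := hquot (B ⧸ I) q b' hCF hb' hreg' hq
    rw [← IsLocalRing.map_maximalIdeal_of_surjective (Ideal.Quotient.mk I)
      Ideal.Quotient.mk_surjective, Ideal.mem_map_iff_of_surjective _ Ideal.Quotient.mk_surjective]
      at hb'
    obtain ⟨b, hb, rfl⟩ := hb'
    have hbF : Ideal.Quotient.mk I b ∈ maximalIdeal (B ⧸ I) := by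
      rw [← IsLocalRing.map_maximalIdeal_of_surjective (Ideal.Quotient.mk I)
        Ideal.Quotient.mk_surjective]
      exact Ideal.mem_map_of_mem _ hb
    let e : B ⊗[A] ResidueField A ≃ₗ[B] B ⧸ I :=
      (Algebra.TensorProduct.quotIdealMapEquivTensorQuot B (maximalIdeal A)).symm.toLinearEquiv
    have hregB' : IsSMulRegular (B ⊗[A] ResidueField A) b := by
      intro s t hst
      refine e.injective (hreg' ?_)
      have := congrArg e hst
      simp only [map_smul] at this
      rw [Algebra.smul_def, Algebra.smul_def] at this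
      exact this
    obtain ⟨hw, hflat⟩ := FlatLocalDepth.regular_and_flat_quot A
      (hI.trans (IsLocalRing.maximalIdeal_le_jacobson _)) [b] B
      ((isWeaklyRegular_singleton_iff _ b).mpr hregB')
    have hregB : IsSMulRegular B b := (isWeaklyRegular_singleton_iff _ b).mp hw
    rw [isGorensteinLocalRing_quotient_iff b hregB hb,
      isGorensteinLocalRing_quotient_iff (Ideal.Quotient.mk I b) hreg' hbF]
    let Q := B ⧸ Ideal.span {b}
    have : Nontrivial Q := Ideal.Quotient.nontrivial_iff.mpr (ne_top_of_le_ne_top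
      (maximalIdeal.isMaximal B).ne_top ((Ideal.span_singleton_le_iff_mem _).mpr hb))
    have : IsLocalRing Q := .of_surjective' _ Ideal.Quotient.mk_surjective
    have : IsLocalHom (Ideal.Quotient.mk (Ideal.span {b})) :=
      IsLocalHom.of_surjective _ Ideal.Quotient.mk_surjective
    have : IsLocalHom (algebraMap A Q) := by
      rw [IsScalarTower.algebraMap_eq A B Q]
      exact RingHom.isLocalHom_comp (Ideal.Quotient.mk (Ideal.span {b})) (algebraMap A B)
    have : Module.Flat A Q := by
      have heq : (Ideal.ofList [b] • ⊤ : Submodule B B) = Ideal.span {b} := by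
        rw [Ideal.ofList_singleton, Ideal.smul_eq_mul, Ideal.mul_top]
      exact Module.Flat.of_linearEquiv ((Submodule.quotEquivOfEq _ _ heq).symm.restrictScalars A)
    have hmI : (maximalIdeal A).map (algebraMap A Q) = I.map (Ideal.Quotient.mk (Ideal.span {b})) := by
      rw [IsScalarTower.algebraMap_eq A B Q, ← Ideal.map_map]
      rfl
    have hspan : (Ideal.span {b}).map (Ideal.Quotient.mk I) = Ideal.span {Ideal.Quotient.mk I b} := by
      rw [Ideal.map_span, Set.image_singleton]
    let eF : Q ⧸ (maximalIdeal A).map (algebraMap A Q) ≃+*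
        (B ⧸ I) ⧸ Ideal.span {Ideal.Quotient.mk I b} :=
      ((Ideal.quotEquivOfEq hmI).trans (DoubleQuot.quotQuotEquivComm (Ideal.span {b}) I)).trans
        (Ideal.quotEquivOfEq hspan)
    have h3 := IH q (by omega) A Q 0 q (Nat.zero_add q) hp
      ((ringKrullDim_eq_of_ringEquiv eF).trans hdF) hCA
      (@FlatLocalDepth.isCohenMacaulayLocalRing_of_ringEquiv _ _ _ _ hCF' eF.symm)
    exact ⟨fun h => let ⟨h1, h2⟩ := h3.mp h
        ⟨h1, GorenSG.gorenstein_of_ringEquiv eF.symm h2⟩,
      fun ⟨h1, h2⟩ => h3.mpr ⟨h1, GorenSG.gorenstein_of_ringEquiv eF h2⟩⟩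
  | 0, 0 =>
    have hB0 : ringKrullDim B = 0 := by
      rw [FlatLocalDepth.ringKrullDim_eq_add A B, hp, hq]
      simp
    have : Ring.KrullDimLE 0 A := Ring.krullDimLE_iff.mpr hp.le
    have : Ring.KrullDimLE 0 B := Ring.krullDimLE_iff.mpr (by exact_mod_cast hB0.le)
    have : Ring.KrullDimLE 0 (B ⧸ I) := Ring.krullDimLE_iff.mpr hq.le
    have : IsArtinianRing A := isArtinianRing_iff_krullDimLE_zero.mpr inferInstance
    have : IsArtinianRing B := isArtinianRing_iff_krullDimLE_zero.mpr inferInstance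
    have : IsArtinianRing (B ⧸ I) := isArtinianRing_iff_krullDimLE_zero.mpr inferInstance
    have key : ∀ (R : Type u) [CommRing R] [IsLocalRing R] [IsNoetherianRing R] [IsArtinianRing R],
        ringKrullDim R = 0 → (LocCoh.IsGorensteinLocalRing R ↔ SimpleSocle R) := by
      intro R _ _ _ _ hR
      rw [← injective_self_iff_simpleSocle]
      exact ⟨fun h => GorenSG.injective_of_gorenstein h hR,
        fun h => GorenSG.gorenstein_of_injective⟩
    rw [key B hB0, key A (by exact_mod_cast hp), key (B ⧸ I) (by exact_mod_cast hq)]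
    exact simpleSocle_iff

/-- A flat local algebra is Gorenstein iff the base and the closed fibre are. -/
theorem isGorensteinLocalRing_iff_flat :
    LocCoh.IsGorensteinLocalRing B ↔ LocCoh.IsGorensteinLocalRing A ∧
      LocCoh.IsGorensteinLocalRing (B ⧸ (maximalIdeal A).map (algebraMap A B)) := by
  have := FlatLocalDepth.nontrivial_fibre A B
  have : IsLocalRing (B ⧸ (maximalIdeal A).map (algebraMap A B)) :=
    .of_surjective' _ Ideal.Quotient.mk_surjective
  obtain ⟨p, hp⟩ := CAlgReg.exists_dim (R := A)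
  obtain ⟨q, hq⟩ := CAlgReg.exists_dim (R := B ⧸ (maximalIdeal A).map (algebraMap A B))
  constructor
  · intro h
    obtain ⟨hA, hF⟩ := (FlatLocalDepth.isCohenMacaulayLocalRing_iff A B).mp (S0341.result B)
    exact (gorenstein_iff_of_cm (p + q) A B p q rfl hp hq hA hF).mp h
  · rintro ⟨hA, hF⟩
    exact (gorenstein_iff_of_cm (p + q) A B p q rfl hp hq (S0341.result A)
      (S0341.result (B ⧸ (maximalIdeal A).map (algebraMap A B)))).mpr ⟨hA, hF⟩

end Groth.Agent.GorenBasic
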