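import Groth.Agent.GorenBasic.FlatLocal
import Groth.Agent.S0342
import Mathlib.RingTheory.RegularLocalRing.Polynomial
import Mathlib.RingTheory.Polynomial.Quotient
import Mathlib.RingTheory.Localization.LocalizationLocalization

/-!
# Gorenstein rings: localization, regular quotients, polynomial rings
-/

set_option autoImplicit false

universe u

open IsLocalRing Polynomial

namespace Groth.Agent.GorenBasic

theorem isGorensteinRing_of_ringEquiv {R S : Type u} [CommRing R] [CommRing S] (e : R ≃+* S)
    [hR : LocCoh.IsGorensteinRing R] : LocCoh.IsGorensteinRing S := by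
  have := isNoetherianRing_of_ringEquiv R e
  refine ⟨fun P _ => ?_⟩
  have := hR.isGorensteinLocalRing_localization (P.comap e.toRingHom)
  refine GorenSG.gorenstein_of_ringEquiv
    (IsLocalization.ringEquivOfRingEquiv (M := (P.comap e.toRingHom).primeCompl) (T := P.primeCompl)
      (Localization.AtPrime (P.comap e.toRingHom)) (Localization.AtPrime P) e ?_).symm this
  ext x
  constructor
  · rintro ⟨y, hy, rfl⟩; exact hy
  · intro hx
    exact ⟨e.symm x, fun h => hx (by simpa using h), e.apply_symm_apply x⟩

/-- Localizations of Gorenstein rings are Gorenstein. -/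
theorem isGorensteinRing_of_isLocalization {R : Type u} (S : Type u) [CommRing R] [CommRing S]
    [Algebra R S] (M : Submonoid R) [IsLocalization M S] [hR : LocCoh.IsGorensteinRing R] :
    LocCoh.IsGorensteinRing S := by
  have := IsLocalization.isNoetherianRing M S hR.1
  refine ⟨fun P _ => ?_⟩
  have hG := hR.isGorensteinLocalRing_localization (P.comap (algebraMap R S))
  have : IsLocalization.AtPrime (Localization.AtPrime P) (P.comap (algebraMap R S)) :=
    IsLocalization.isLocalization_isLocalization_atPrime_isLocalization M (Localization.AtPrime P) P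
  exact GorenSG.gorenstein_of_ringEquiv
    (IsLocalization.algEquiv (P.comap (algebraMap R S)).primeCompl
      (Localization.AtPrime (P.comap (algebraMap R S))) (Localization.AtPrime P)).toRingEquiv.symm hG

/-- A Gorenstein ring modulo a regular element is Gorenstein. -/
theorem isGorensteinRing_quotient {R : Type u} [CommRing R] [hR : LocCoh.IsGorensteinRing R] {f : R}
    (hf : IsSMulRegular R f) : LocCoh.IsGorensteinRing (R ⧸ Ideal.span {f}) := by
  refine ⟨fun P _ => ?_⟩
  let p := P.comap (Ideal.Quotient.mk (Ideal.span {f}))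
  let A := Localization.AtPrime p
  let L := Localization.AtPrime P
  let g : R →+* L := (algebraMap (R ⧸ Ideal.span {f}) L).comp (Ideal.Quotient.mk _)
  have hA : LocCoh.IsGorensteinLocalRing A := hR.isGorensteinLocalRing_localization p
  have hu : ∀ s : p.primeCompl, IsUnit (g s) := fun s =>
    IsLocalization.map_units L (⟨Ideal.Quotient.mk _ s.1, s.2⟩ : P.primeCompl)
  let ψ : A →+* L := IsLocalization.lift (M := p.primeCompl) hu
  have hψ : ∀ r, ψ (algebraMap R A r) = g r := fun r => IsLocalization.lift_eq _ _
  have hsur : Function.Surjective ψ := fun z => by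
    obtain ⟨r', ⟨s', hs'⟩, rfl⟩ := IsLocalization.exists_mk'_eq P.primeCompl z
    obtain ⟨r, rfl⟩ := Ideal.Quotient.mk_surjective r'
    obtain ⟨s, rfl⟩ := Ideal.Quotient.mk_surjective s'
    refine ⟨IsLocalization.mk' A r (⟨s, hs'⟩ : p.primeCompl), ?_⟩
    rw [IsLocalization.lift_mk'_spec]
    exact (IsLocalization.mk'_spec' L (Ideal.Quotient.mk _ r)
      (⟨Ideal.Quotient.mk _ s, hs'⟩ : P.primeCompl)).symm
  have hk : RingHom.ker ψ = Ideal.span {algebraMap R A f} := by
    refine le_antisymm (fun x hx => ?_) ((Ideal.span_singleton_le_iff_mem _).2 ?_)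
    · obtain ⟨r, s, rfl⟩ := IsLocalization.exists_mk'_eq p.primeCompl x
      rw [RingHom.mem_ker, IsLocalization.lift_mk'_spec, mul_zero] at hx
      obtain ⟨⟨c', hc'⟩, hc⟩ := (IsLocalization.map_eq_zero_iff P.primeCompl L _).mp hx
      obtain ⟨c, rfl⟩ := Ideal.Quotient.mk_surjective c'
      change Ideal.Quotient.mk _ c * Ideal.Quotient.mk _ r = 0 at hc
      rw [← map_mul, Ideal.Quotient.eq_zero_iff_mem, Ideal.mem_span_singleton'] at hc
      obtain ⟨a, ha⟩ := hc
      refine Ideal.mem_span_singleton'.mpr
        ⟨IsLocalization.mk' A a ((⟨c, hc'⟩ : p.primeCompl) * s), ?_⟩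
      rw [mul_comm, IsLocalization.mul_mk'_eq_mk'_of_mul, mul_comm f a, ha]
      refine IsLocalization.mk'_eq_of_eq ?_
      push_cast
      ring
    · rw [RingHom.mem_ker, hψ]
      change algebraMap (R ⧸ Ideal.span {f}) L (Ideal.Quotient.mk (Ideal.span {f}) f) = 0
      rw [Ideal.Quotient.eq_zero_iff_mem.mpr (Ideal.mem_span_singleton_self f), map_zero]
  have hm : algebraMap R A f ∈ maximalIdeal A :=
    (IsLocalization.AtPrime.to_map_mem_maximal_iff A p f).2
      (show Ideal.Quotient.mk (Ideal.span {f}) f ∈ P by
        rw [Ideal.Quotient.eq_zero_iff_mem.mpr (Ideal.mem_span_singleton_self f)]; exact P.zero_mem)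
  have hreg : IsSMulRegular A (algebraMap R A f) := hf.of_flat (S := A)
  exact GorenSG.gorenstein_of_ringEquiv
    ((Ideal.quotEquivOfEq hk.symm).trans (RingHom.quotientKerEquivOfSurjective hsur)).symm
    ((isGorensteinLocalRing_quotient_iff (algebraMap R A f) hreg hm).mp hA)

/-- The polynomial ring over a Gorenstein ring is Gorenstein. -/
theorem isGorensteinRing_polynomial {R : Type u} [CommRing R] [hR : LocCoh.IsGorensteinRing R] :
    LocCoh.IsGorensteinRing R[X] := by
  refine ⟨fun q _ => ?_⟩
  let p := q.comap (C : R →+* R[X])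
  have : q.LiesOver p := ⟨rfl⟩
  let A := Localization.AtPrime p
  let T := Localization.AtPrime q
  letI : Algebra A T := Localization.AtPrime.algebraOfLiesOver p q
  have : Module.Flat A T := (Module.flat_iff_of_isLocalization A p.primeCompl T).mpr
    (Module.Flat.trans R R[X] T)
  have hloc : IsLocalHom (algebraMap A T) :=
    inferInstanceAs (IsLocalHom (Localization.localRingHom p q (algebraMap R R[X]) rfl))
  refine isGorensteinLocalRing_iff_flat.mpr ⟨hR.isGorensteinLocalRing_localization p, ?_⟩
  let κ := ResidueField A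
  let I := (maximalIdeal A).map (algebraMap A T)
  let F := T ⧸ I
  have hI : I ≤ maximalIdeal T := ((local_hom_TFAE (algebraMap A T)).out 0 2 rfl rfl).1 inferInstance
  have : Nontrivial F := Ideal.Quotient.nontrivial_iff.mpr
    (ne_top_of_le_ne_top (maximalIdeal.isMaximal T).ne_top hI)
  have : IsLocalRing F := .of_surjective' _ Ideal.Quotient.mk_surjective
  have : IsLocalHom (Ideal.Quotient.mk I) := IsLocalHom.of_surjective _ Ideal.Quotient.mk_surjective
  let ι : κ →+* F := Ideal.quotientMap I (algebraMap A T) Ideal.le_comap_map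
  let θ : κ[X] →+* F := eval₂RingHom ι (Ideal.Quotient.mk I (algebraMap R[X] T X))
  let π : R[X] →+* κ[X] := mapRingHom ((residue A).comp (algebraMap R A))
  have hθπ : θ.comp π = (Ideal.Quotient.mk I).comp (algebraMap R[X] T) := by
    refine Polynomial.ringHom_ext (fun r => ?_) ?_
    · simp only [RingHom.comp_apply, π, coe_mapRingHom, map_C, θ, coe_eval₂RingHom, eval₂_C]
      change Ideal.Quotient.mk I (algebraMap A T (algebraMap R A r)) = _
      rw [← IsScalarTower.algebraMap_apply R A T, IsScalarTower.algebraMap_apply R R[X] T]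
      rfl
    · simp [π, θ]
  let Q := (maximalIdeal F).comap θ
  let L := Localization.AtPrime Q
  have hθu : ∀ s : Q.primeCompl, IsUnit (θ s.1) := fun s =>
    notMem_maximalIdeal.mp (show θ s.1 ∉ maximalIdeal F from s.2)
  let lθ : L →+* F := IsLocalization.lift (S := L) hθu
  have hlθ : ∀ c, lθ (algebraMap κ[X] L c) = θ c := fun c => IsLocalization.lift_eq hθu c
  have hπu : ∀ s : q.primeCompl, IsUnit (((algebraMap κ[X] L).comp π) s) := fun s => by
    refine IsLocalization.map_units L (⟨π s.1, ?_⟩ : Q.primeCompl)
    change θ.comp π s.1 ∉ maximalIdeal F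
    rw [hθπ, notMem_maximalIdeal]
    exact (IsLocalization.map_units T s).map (Ideal.Quotient.mk I)
  let ψ : T →+* L := IsLocalization.lift (M := q.primeCompl) hπu
  have hψ : ∀ r, ψ (algebraMap R[X] T r) = algebraMap κ[X] L (π r) := fun r =>
    IsLocalization.lift_eq _ _
  have hψA : ψ.comp (algebraMap A T) = ((algebraMap κ[X] L).comp C).comp (residue A) := by
    refine IsLocalization.ringHom_ext p.primeCompl (RingHom.ext fun r => ?_)
    simp only [RingHom.comp_apply]
    rw [← IsScalarTower.algebraMap_apply R A T, IsScalarTower.algebraMap_apply R R[X] T, hψ]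
    exact congrArg _ (by simp [π, Polynomial.algebraMap_eq])
  have hψI : ∀ a ∈ I, ψ a = 0 := fun a ha => by
    refine (Ideal.map_le_iff_le_comap (K := RingHom.ker ψ)).mpr (fun b hb => ?_) ha
    change (ψ.comp (algebraMap A T)) b = 0
    rw [hψA]
    simp [(residue_eq_zero_iff b).mpr hb]
  let ψ' : F →+* L := Ideal.Quotient.lift I ψ hψI
  have h1 : lθ.comp ψ' = RingHom.id F := by
    refine Ideal.Quotient.ringHom_ext (IsLocalization.ringHom_ext q.primeCompl ?_)
    refine RingHom.ext fun r => ?_
    change lθ (ψ (algebraMap R[X] T r)) = Ideal.Quotient.mk I (algebraMap R[X] T r)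
    rw [hψ, hlθ]
    exact DFunLike.congr_fun hθπ r
  have h2 : ψ'.comp lθ = RingHom.id L := by
    refine IsLocalization.ringHom_ext Q.primeCompl (Polynomial.ringHom_ext (fun c => ?_) ?_)
    · obtain ⟨a, rfl⟩ := residue_surjective c
      simp only [RingHom.comp_apply, RingHom.id_comp, hlθ, θ, coe_eval₂RingHom,
        eval₂_C]
      exact DFunLike.congr_fun hψA a
    · simp only [RingHom.comp_apply, RingHom.id_comp, hlθ, θ, coe_eval₂RingHom,
        eval₂_X]
      change ψ (algebraMap R[X] T X) = _
      rw [hψ]
      simp [π]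
  have : IsRegularLocalRing L := IsRegularRing.isRegularLocalRing_localization Q
  exact GorenSG.gorenstein_of_ringEquiv (RingEquiv.ofRingHom ψ' lθ h2 h1)
    (isGorensteinLocalRing_of_isRegularLocalRing L)

end Groth.Agent.GorenBasic
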