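import Groth.Agent.GorenBasic.RingOps
import Mathlib.FieldTheory.IntermediateField.Adjoin.Algebra
import Mathlib.FieldTheory.IntermediateField.Adjoin.Defs
import Mathlib.RingTheory.EssentialFiniteness
import Mathlib.RingTheory.Localization.BaseChange
import Mathlib.RingTheory.PolynomialAlgebra
import Mathlib.RingTheory.TensorProduct.Quotient
import Mathlib.RingTheory.Polynomial.Nilpotent

/-!
# Gorenstein rings and finitely generated field extensions
-/

set_option autoImplicit false
set_option backward.isDefEq.respectTransparency false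

universe u

open IsLocalRing Polynomial TensorProduct IntermediateField

namespace Groth.Agent.GorenBasic

/-- `F[x] ⊗ B` is Gorenstein. -/
theorem isGorensteinRing_tensor_adjoin {F L B : Type u} [Field F] [Field L] [Algebra F L]
    [CommRing B] [Algebra F B] [LocCoh.IsGorensteinRing B] (x : L) :
    LocCoh.IsGorensteinRing (Algebra.adjoin F ({x} : Set L) ⊗[F] B) := by
  let K : Ideal F[X] := RingHom.ker (aeval (R := F) x)
  obtain ⟨g, hK, hg⟩ : ∃ g : F[X], K = Ideal.span {g} ∧ (g = 0 ∨ g.Monic) := by
    by_cases hx : IsIntegral F x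
    · refine ⟨minpoly F x, ?_, Or.inr (minpoly.monic hx)⟩
      ext p
      rw [RingHom.mem_ker, Ideal.mem_span_singleton]
      exact (minpoly.dvd_iff).symm
    · refine ⟨0, ?_, Or.inl rfl⟩
      have : Transcendental F x := by rwa [Transcendental, isAlgebraic_iff_isIntegral]
      rw [Ideal.span_singleton_zero]
      exact (RingHom.injective_iff_ker_eq_bot _).mp (transcendental_iff_injective.mp this)
  let x' : Algebra.adjoin F ({x} : Set L) := ⟨x, Algebra.subset_adjoin rfl⟩
  let ψ : F[X] →ₐ[F] Algebra.adjoin F ({x} : Set L) := aeval x'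
  have hψ : ∀ p, (ψ p : L) = aeval x p := fun p =>
    (aeval_algHom_apply (Algebra.adjoin F ({x} : Set L)).val x' p).symm
  have hψs : Function.Surjective ψ := by
    rintro ⟨y, hy⟩
    rw [Algebra.adjoin_singleton_eq_range_aeval] at hy
    obtain ⟨p, hp⟩ := hy
    exact ⟨p, Subtype.ext ((hψ p).trans hp)⟩
  have hψK : K = RingHom.ker ψ := by
    ext p
    rw [RingHom.mem_ker, RingHom.mem_ker, ← hψ p]
    exact ⟨fun h => Subtype.ext h, fun h => congrArg Subtype.val h⟩
  let e1 : (F[X] ⧸ K) ≃ₐ[F] Algebra.adjoin F ({x} : Set L) :=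
    (Ideal.quotientEquivAlgOfEq F hψK).trans (Ideal.quotientKerAlgEquivOfSurjective hψs)
  let g' : B ⊗[F] F[X] := (1 : B) ⊗ₜ g
  let gB : B[X] := g.map (algebraMap F B)
  have hgB : (polyEquivTensor F B).symm g' = gB := by
    simp [g', gB]
  have hB : LocCoh.IsGorensteinRing (B[X] ⧸ Ideal.span {gB}) := by
    rcases hg with rfl | hm
    · have := isGorensteinRing_polynomial (R := B)
      exact isGorensteinRing_of_ringEquiv
        ((Ideal.quotEquivOfEq (show Ideal.span {gB} = ⊥ by simp [gB])).trans
          (RingEquiv.quotientBot B[X])).symm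
    · have := isGorensteinRing_polynomial (R := B)
      refine isGorensteinRing_quotient ?_
      exact (hm.map (algebraMap F B)).isRegular.left
  let e2 : (B ⊗[F] F[X]) ⧸ K.map (Algebra.TensorProduct.includeRight (R := F) (A := B)) ≃+*
      B[X] ⧸ Ideal.span {gB} :=
    Ideal.quotientEquiv _ _ (polyEquivTensor F B).symm.toRingEquiv (by
      rw [hK, Ideal.map_span, Set.image_singleton, Ideal.map_span, Set.image_singleton]
      exact congrArg (fun z => Ideal.span {z}) hgB.symm)
  let e3 : B ⊗[F] (F[X] ⧸ K) ≃+* B[X] ⧸ Ideal.span {gB} :=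
    (Algebra.TensorProduct.tensorQuotientEquiv (R := F) (S := B) (A := B) (T := F[X]) K).toRingEquiv.trans e2
  let e4 : B ⊗[F] (F[X] ⧸ K) ≃+* Algebra.adjoin F ({x} : Set L) ⊗[F] B :=
    ((Algebra.TensorProduct.congr AlgEquiv.refl e1).trans
      (Algebra.TensorProduct.comm F B _)).toRingEquiv
  exact isGorensteinRing_of_ringEquiv (e3.symm.trans e4)

open scoped IntermediateField.algebraAdjoinAdjoin in
/-- `F(x) ⊗ B` is Gorenstein. -/
theorem isGorensteinRing_tensor_simple {F L B : Type u} [Field F] [Field L] [Algebra F L]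
    [CommRing B] [Algebra F B] [LocCoh.IsGorensteinRing B] (x : L) :
    LocCoh.IsGorensteinRing (F⟮x⟯ ⊗[F] B) := by
  let A' := Algebra.adjoin F ({x} : Set L)
  let T := A' ⊗[F] B
  have : LocCoh.IsGorensteinRing T := isGorensteinRing_tensor_adjoin x
  letI : Algebra T (F⟮x⟯ ⊗[A'] T) := Algebra.TensorProduct.rightAlgebra
  have : LocCoh.IsGorensteinRing (F⟮x⟯ ⊗[A'] T) :=
    isGorensteinRing_of_isLocalization (R := T) _
      (Algebra.algebraMapSubmonoid T (nonZeroDivisors A'))
  exact isGorensteinRing_of_ringEquiv
    (Algebra.TensorProduct.cancelBaseChange F A' F⟮x⟯ F⟮x⟯ B).toRingEquiv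

/-- One more generator. -/
theorem isGorensteinRing_tensor_step {k F L B : Type u} [Field k] [Field F] [Field L] [Algebra k F]
    [Algebra F L] [Algebra k L] [IsScalarTower k F L] [CommRing B] [Algebra k B]
    (hF : LocCoh.IsGorensteinRing (F ⊗[k] B)) (x : L) :
    LocCoh.IsGorensteinRing (F⟮x⟯ ⊗[k] B) := by
  have : LocCoh.IsGorensteinRing (F⟮x⟯ ⊗[F] (F ⊗[k] B)) := isGorensteinRing_tensor_simple x
  exact isGorensteinRing_of_ringEquiv
    (Algebra.TensorProduct.cancelBaseChange k F F F⟮x⟯ B).toRingEquiv

/-- Base change of a Gorenstein ring along a finitely generated field extension. -/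
theorem isGorensteinRing_tensor_of_fg {k L : Type u} [Field k] [Field L] [Algebra k L]
    (hL : ∃ s : Finset L, IntermediateField.adjoin k (s : Set L) = ⊤)
    {B : Type u} [CommRing B] [Algebra k B] [hB : LocCoh.IsGorensteinRing B] :
    LocCoh.IsGorensteinRing (L ⊗[k] B) := by
  obtain ⟨s, hs⟩ := hL
  have key : LocCoh.IsGorensteinRing ((IntermediateField.adjoin k (s : Set L)) ⊗[k] B) := by
    refine IntermediateField.induction_on_adjoin_finset (F := k) s
      (fun E => LocCoh.IsGorensteinRing (E ⊗[k] B)) ?_ fun E x _ hE => ?_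
    · exact isGorensteinRing_of_ringEquiv
        ((Algebra.TensorProduct.congr (IntermediateField.botEquiv k L) AlgEquiv.refl).trans
          (Algebra.TensorProduct.lid k B)).symm.toRingEquiv
    · exact isGorensteinRing_tensor_step hE x
  rw [hs] at key
  exact isGorensteinRing_of_ringEquiv
    (Algebra.TensorProduct.congr (IntermediateField.topEquiv (F := k) (E := L))
      (AlgEquiv.refl (R := k) (A₁ := B))).toRingEquiv

theorem isGorensteinRing_of_field (K : Type u) [Field K] : LocCoh.IsGorensteinRing K := by
  refine ⟨fun p _ => ?_⟩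
  have : IsRegularLocalRing (Localization.AtPrime p) := IsRegularRing.isRegularLocalRing_localization p
  exact isGorensteinLocalRing_of_isRegularLocalRing _

/-- The tensor product of two fields, one of them finitely generated, is Gorenstein. -/
theorem isGorensteinRing_tensor_fields (k K L : Type u) [Field k] [Field K] [Field L] [Algebra k K]
    [Algebra k L] (h : Algebra.EssFiniteType k K ∨ Algebra.EssFiniteType k L) :
    LocCoh.IsGorensteinRing (K ⊗[k] L) := by
  have := isGorensteinRing_of_field K
  have := isGorensteinRing_of_field L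
  rcases h with h | h
  · exact isGorensteinRing_tensor_of_fg (IntermediateField.fg_top_iff.mpr h)
  · have : LocCoh.IsGorensteinRing (L ⊗[k] K) :=
      isGorensteinRing_tensor_of_fg (IntermediateField.fg_top_iff.mpr h)
    exact isGorensteinRing_of_ringEquiv (Algebra.TensorProduct.comm k L K).toRingEquiv

end Groth.Agent.GorenBasic
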